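import Mathlib
import Cfsg.Prelude.Def_Classical
import Cfsg.Prelude.Def_ClassicalGeometry

/-!
Transvections and short root elements of `SU_n(q)` attached to isotropic vectors, with the identities
between them, and closure properties of the centres of the transvection groups contained in a subgroup.
-/

set_option autoImplicit false

namespace CfsgLib.RegUnipU

open Matrix

variable {F : Type*} [Field F] {n q : ℕ}

/-- The conjugation `x ↦ x ^ q` of the field with `q²` elements, as a ring homomorphism. -/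
structure Conj (F : Type*) [Field F] (q : ℕ) where
  σ : F →+* F
  hσ : ∀ x, σ x = x ^ q
  hσ2 : ∀ x, σ (σ x) = x

/-- The matrix of an element of `SU_n(q)`. -/
def mat (g : ↥(Cfsg.SU n F q)) : Matrix (Fin n) (Fin n) F :=
  ((g : Matrix.SpecialLinearGroup (Fin n) F) : Matrix (Fin n) (Fin n) F)

theorem mat_mul (g h : ↥(Cfsg.SU n F q)) : mat (g * h) = mat g * mat h := rfl

theorem mat_one : mat (1 : ↥(Cfsg.SU n F q)) = 1 := rfl

theorem mulVec_mul (g h : ↥(Cfsg.SU n F q)) (x : Fin n → F) :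
    mat (g * h) *ᵥ x = mat g *ᵥ (mat h *ᵥ x) := by
  rw [mat_mul, mulVec_mulVec]

theorem one_act (x : Fin n → F) : mat (1 : ↥(Cfsg.SU n F q)) *ᵥ x = x := by
  rw [mat_one, one_mulVec]

theorem su_ext {g h : ↥(Cfsg.SU n F q)} (H : ∀ v, mat g *ᵥ v = mat h *ᵥ v) : g = h :=
  Subtype.ext (Subtype.ext (Matrix.ext_of_mulVec_single fun _ => H _))

theorem inv_fix {g : ↥(Cfsg.SU n F q)} {x y : Fin n → F} (h : mat g *ᵥ x = y) :
    mat g⁻¹ *ᵥ y = x := by
  rw [← h, ← mulVec_mul, inv_mul_cancel, one_act]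

theorem form_mulVec (g : ↥(Cfsg.SU n F q)) (u v : Fin n → F) :
    Cfsg.hermForm n F q (mat g *ᵥ u) (mat g *ᵥ v) = Cfsg.hermForm n F q u v :=
  g.2 u v

theorem commute_of_conj {G : Type*} [Group G] {a b : G} (h : a * b * a⁻¹ = b) : Commute a b :=
  mul_inv_eq_iff_eq_mul.1 h

theorem det_one_add_vec (a w : Fin n → F) :
    (1 + vecMulVec a w).det = 1 + w ⬝ᵥ a := by
  rw [vecMulVec_eq Unit, det_one_add_replicateCol_mul_replicateRow]

namespace Conj

variable (C : Conj F q)
include C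

theorem form_eq (u v : Fin n → F) :
    Cfsg.hermForm n F q u v = ∑ i, u i * C.σ (v i) := by
  simp [Cfsg.hermForm, C.hσ]

theorem add_left (u u' v : Fin n → F) :
    Cfsg.hermForm n F q (u + u') v = Cfsg.hermForm n F q u v + Cfsg.hermForm n F q u' v := by
  simp [C.form_eq, add_mul, Finset.sum_add_distrib]

theorem add_right (u v v' : Fin n → F) :
    Cfsg.hermForm n F q u (v + v') = Cfsg.hermForm n F q u v + Cfsg.hermForm n F q u v' := by
  simp [C.form_eq, mul_add, Finset.sum_add_distrib]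

theorem sub_left (u u' v : Fin n → F) :
    Cfsg.hermForm n F q (u - u') v = Cfsg.hermForm n F q u v - Cfsg.hermForm n F q u' v := by
  simp [C.form_eq, sub_mul, Finset.sum_sub_distrib]

theorem sub_right (u v v' : Fin n → F) :
    Cfsg.hermForm n F q u (v - v') = Cfsg.hermForm n F q u v - Cfsg.hermForm n F q u v' := by
  simp [C.form_eq, mul_sub, Finset.sum_sub_distrib]

theorem smul_left (c : F) (u v : Fin n → F) :
    Cfsg.hermForm n F q (c • u) v = c * Cfsg.hermForm n F q u v := by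
  simp [C.form_eq, Finset.mul_sum, mul_assoc]

theorem smul_right (c : F) (u v : Fin n → F) :
    Cfsg.hermForm n F q u (c • v) = C.σ c * Cfsg.hermForm n F q u v := by
  simp [C.form_eq, Finset.mul_sum, mul_left_comm]

theorem neg_right (u v : Fin n → F) :
    Cfsg.hermForm n F q u (-v) = -Cfsg.hermForm n F q u v := by
  simp [C.form_eq]

theorem zero_left (v : Fin n → F) : Cfsg.hermForm n F q 0 v = 0 := by simp [C.form_eq]

theorem zero_right (v : Fin n → F) : Cfsg.hermForm n F q v 0 = 0 := by simp [C.form_eq]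

theorem flip (u v : Fin n → F) :
    Cfsg.hermForm n F q v u = C.σ (Cfsg.hermForm n F q u v) := by
  simp [C.form_eq, map_sum, C.hσ2, mul_comm]

theorem flip_zero {u v : Fin n → F} (h : Cfsg.hermForm n F q u v = 0) :
    Cfsg.hermForm n F q v u = 0 := by
  rw [C.flip, h, map_zero]

theorem row_dot (v x : Fin n → F) :
    (fun i => C.σ (v i)) ⬝ᵥ x = Cfsg.hermForm n F q x v := by
  simp [C.form_eq, dotProduct, mul_comm]

/-- The matrix `x ↦ x + c h(x, w) v`. -/
def rankOne (v w : Fin n → F) (c : F) : Matrix (Fin n) (Fin n) F :=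
  1 + vecMulVec (c • v) fun i => C.σ (w i)

theorem rankOne_mulVec (v w : Fin n → F) (c : F) (x : Fin n → F) :
    C.rankOne v w c *ᵥ x = x + (c * Cfsg.hermForm n F q x w) • v := by
  rw [rankOne, add_mulVec, one_mulVec, vecMulVec_mulVec, op_smul_eq_smul, smul_smul, C.row_dot,
    mul_comm]

theorem det_rankOne (v w : Fin n → F) (c : F) :
    (C.rankOne v w c).det = 1 + c * Cfsg.hermForm n F q v w := by
  rw [rankOne, det_one_add_vec, dotProduct_smul, C.row_dot, smul_eq_mul]

theorem unitaryTransvection_eq (v : Fin n → F) (c : F) :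
    Cfsg.unitaryTransvection n q v c = C.rankOne v v c := by
  simp [Cfsg.unitaryTransvection, rankOne, C.hσ, smul_vecMulVec]

theorem mem_of_tm {v : Fin n → F} {c : F} (hv : Cfsg.hermForm n F q v v = 0) (hc : C.σ c = -c) :
    (⟨C.rankOne v v c, by rw [C.det_rankOne, hv, mul_zero, add_zero]⟩ :
      Matrix.SpecialLinearGroup (Fin n) F) ∈ Cfsg.SU n F q := by
  intro x y
  show Cfsg.hermForm n F q (C.rankOne v v c *ᵥ x) (C.rankOne v v c *ᵥ y) = _
  simp only [C.rankOne_mulVec, C.add_left, C.add_right, C.smul_left, C.smul_right, hv, map_mul, hc,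
    mul_zero, add_zero]
  rw [← C.flip y v]
  ring

open Classical in
/-- The transvection `x ↦ x + c h(x, v) v` (`v` isotropic, `c` of trace zero). -/
noncomputable def tm (v : Fin n → F) (c : F) : ↥(Cfsg.SU n F q) :=
  if h : Cfsg.hermForm n F q v v = 0 ∧ C.σ c = -c then ⟨_, C.mem_of_tm h.1 h.2⟩ else 1

theorem tm_mulVec {v : Fin n → F} {c : F} (hv : Cfsg.hermForm n F q v v = 0) (hc : C.σ c = -c)
    (x : Fin n → F) : mat (C.tm v c) *ᵥ x = x + (c * Cfsg.hermForm n F q x v) • v := by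
  rw [tm, dif_pos ⟨hv, hc⟩]
  exact C.rankOne_mulVec v v c x

theorem mem_of_rt {x y : Fin n → F} (c : F) (hx : Cfsg.hermForm n F q x x = 0)
    (hy : Cfsg.hermForm n F q y y = 0) (hxy : Cfsg.hermForm n F q x y = 0) :
    (⟨C.rankOne y x c * C.rankOne x y (-C.σ c), by
        rw [det_mul, C.det_rankOne, C.det_rankOne, hxy, C.flip_zero hxy, mul_zero, mul_zero,
          add_zero, mul_one]⟩ : Matrix.SpecialLinearGroup (Fin n) F) ∈ Cfsg.SU n F q := by
  intro u v
  show Cfsg.hermForm n F q ((C.rankOne y x c * C.rankOne x y (-C.σ c)) *ᵥ u)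
    ((C.rankOne y x c * C.rankOne x y (-C.σ c)) *ᵥ v) = _
  simp only [← mulVec_mulVec, C.rankOne_mulVec, C.add_left, C.add_right, C.smul_left, C.smul_right,
    hx, hy, hxy, C.flip_zero hxy, mul_zero, add_zero, map_mul, map_neg, C.hσ2]
  rw [← C.flip v x, ← C.flip v y]
  ring

open Classical in
/-- The short root element `z ↦ z + c h(z,x) y - c^q h(z,y) x` (`x`, `y` isotropic, orthogonal). -/
noncomputable def rt (x y : Fin n → F) (c : F) : ↥(Cfsg.SU n F q) :=
  if h : Cfsg.hermForm n F q x x = 0 ∧ Cfsg.hermForm n F q y y = 0 ∧ Cfsg.hermForm n F q x y = 0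
  then ⟨_, C.mem_of_rt c h.1 h.2.1 h.2.2⟩ else 1

/-- `x` and `y` are isotropic and orthogonal. -/
structure Orth2 (x y : Fin n → F) : Prop where
  hx : Cfsg.hermForm n F q x x = 0
  hy : Cfsg.hermForm n F q y y = 0
  hxy : Cfsg.hermForm n F q x y = 0

theorem rt_mulVec {x y : Fin n → F} (h : Orth2 (q := q) x y) (c : F) (z : Fin n → F) :
    mat (C.rt x y c) *ᵥ z = z + (c * Cfsg.hermForm n F q z x) • y -
      (C.σ c * Cfsg.hermForm n F q z y) • x := by
  rw [rt, dif_pos ⟨h.hx, h.hy, h.hxy⟩]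
  show (C.rankOne y x c * C.rankOne x y (-C.σ c)) *ᵥ z = _
  simp only [← mulVec_mulVec, C.rankOne_mulVec, C.add_left, C.smul_left, h.hx, mul_zero, add_zero]
  module

theorem orth2_symm {x y : Fin n → F} (h : Orth2 (q := q) x y) : Orth2 (q := q) y x :=
  ⟨h.hy, h.hx, C.flip_zero h.hxy⟩

theorem orth2_smul_right {x y : Fin n → F} (a : F) (h : Orth2 (q := q) x y) :
    Orth2 (q := q) x (a • y) :=
  ⟨h.hx, by rw [C.smul_left, C.smul_right, h.hy, mul_zero, mul_zero],
    by rw [C.smul_right, h.hxy, mul_zero]⟩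

theorem orth2_smul_left {x y : Fin n → F} (a : F) (h : Orth2 (q := q) x y) :
    Orth2 (q := q) (a • x) y :=
  C.orth2_symm (C.orth2_smul_right a (C.orth2_symm h))

theorem orth2_add_right {x y y' : Fin n → F} (h : Orth2 (q := q) x y) (h' : Orth2 (q := q) x y')
    (ho : Cfsg.hermForm n F q y y' = 0) : Orth2 (q := q) x (y + y') :=
  ⟨h.hx, by rw [C.add_left, C.add_right, C.add_right, h.hy, h'.hy, ho, C.flip_zero ho]; simp,
    by rw [C.add_right, h.hxy, h'.hxy, add_zero]⟩

theorem orth2_add_left {x x' y : Fin n → F} (h : Orth2 (q := q) x y) (h' : Orth2 (q := q) x' y)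
    (ho : Cfsg.hermForm n F q x x' = 0) : Orth2 (q := q) (x + x') y :=
  C.orth2_symm (C.orth2_add_right (C.orth2_symm h) (C.orth2_symm h') ho)

theorem tm_fix {v x : Fin n → F} {c : F} (hv : Cfsg.hermForm n F q v v = 0) (hc : C.σ c = -c)
    (h : Cfsg.hermForm n F q x v = 0) : mat (C.tm v c) *ᵥ x = x := by
  rw [C.tm_mulVec hv hc, h, mul_zero, zero_smul, add_zero]

theorem rt_fix {x y z : Fin n → F} (h : Orth2 (q := q) x y) (c : F)
    (hx : Cfsg.hermForm n F q z x = 0) (hy : Cfsg.hermForm n F q z y = 0) :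
    mat (C.rt x y c) *ᵥ z = z := by
  rw [C.rt_mulVec h, hx, hy]
  simp

theorem conj_tm (g : ↥(Cfsg.SU n F q)) {v : Fin n → F} {c : F}
    (hv : Cfsg.hermForm n F q v v = 0) (hc : C.σ c = -c) :
    g * C.tm v c * g⁻¹ = C.tm (mat g *ᵥ v) c := by
  refine su_ext fun x => ?_
  obtain ⟨z, rfl⟩ : ∃ z, mat g *ᵥ z = x := ⟨mat g⁻¹ *ᵥ x, by rw [← mulVec_mul, mul_inv_cancel, one_act]⟩
  rw [mulVec_mul, mulVec_mul, inv_fix rfl, C.tm_mulVec hv hc,
    C.tm_mulVec (by rw [form_mulVec, hv]) hc, form_mulVec, mulVec_add, mulVec_smul]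

theorem conj_rt (g : ↥(Cfsg.SU n F q)) {x y : Fin n → F} (h : Orth2 (q := q) x y) (c : F) :
    g * C.rt x y c * g⁻¹ = C.rt (mat g *ᵥ x) (mat g *ᵥ y) c := by
  refine su_ext fun z => ?_
  obtain ⟨w, rfl⟩ : ∃ w, mat g *ᵥ w = z := ⟨mat g⁻¹ *ᵥ z, by rw [← mulVec_mul, mul_inv_cancel, one_act]⟩
  have h' : Orth2 (q := q) (mat g *ᵥ x) (mat g *ᵥ y) :=
    ⟨by rw [form_mulVec, h.hx], by rw [form_mulVec, h.hy], by rw [form_mulVec, h.hxy]⟩
  rw [mulVec_mul, mulVec_mul, inv_fix rfl, C.rt_mulVec h, C.rt_mulVec h', form_mulVec, form_mulVec,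
    mulVec_sub, mulVec_add, mulVec_smul, mulVec_smul]

theorem tm_zero {v : Fin n → F} (hv : Cfsg.hermForm n F q v v = 0) :
    C.tm (n := n) v 0 = 1 :=
  su_ext fun x => by rw [C.tm_mulVec hv (by simp), one_act]; simp

theorem tm_zero_vec (c : F) : C.tm (0 : Fin n → F) c = 1 := by
  by_cases hc : C.σ c = -c
  · exact su_ext fun x => by rw [C.tm_mulVec (C.zero_left _) hc, one_act]; simp
  · rw [tm, dif_neg (fun h => hc h.2)]

theorem trace_zero_add {c d : F} (hc : C.σ c = -c) (hd : C.σ d = -d) :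
    C.σ (c + d) = -(c + d) := by
  rw [map_add, hc, hd]; ring

theorem trace_zero_neg {c : F} (hc : C.σ c = -c) : C.σ (-c) = -(-c) := by rw [map_neg, hc]

theorem trace_zero_sub_conj (z : F) : C.σ (z - C.σ z) = -(z - C.σ z) := by
  rw [map_sub, C.hσ2]; ring

theorem trace_zero_mul {c a : F} (hc : C.σ c = -c) (ha : C.σ a = a) :
    C.σ (c * a) = -(c * a) := by
  rw [map_mul, hc, ha, neg_mul]

theorem norm_fixed (a : F) : C.σ (a * C.σ a) = a * C.σ a := by
  rw [map_mul, C.hσ2, mul_comm]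

theorem tm_mul {v : Fin n → F} {c d : F} (hv : Cfsg.hermForm n F q v v = 0) (hc : C.σ c = -c)
    (hd : C.σ d = -d) : C.tm v c * C.tm v d = C.tm v (c + d) := by
  refine su_ext fun x => ?_
  rw [mulVec_mul, C.tm_mulVec hv hd, C.tm_mulVec hv hc, C.tm_mulVec hv (C.trace_zero_add hc hd),
    C.add_left, C.smul_left, hv, mul_zero, add_zero]
  module

theorem tm_inv {v : Fin n → F} {c : F} (hv : Cfsg.hermForm n F q v v = 0) (hc : C.σ c = -c) :
    (C.tm v c)⁻¹ = C.tm v (-c) :=
  inv_eq_of_mul_eq_one_right (by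
    rw [C.tm_mul hv hc (C.trace_zero_neg hc), add_neg_cancel, C.tm_zero hv])

theorem tm_smul {v : Fin n → F} {c : F} (a : F) (hv : Cfsg.hermForm n F q v v = 0)
    (hc : C.σ c = -c) : C.tm (a • v) c = C.tm v (c * (a * C.σ a)) := by
  refine su_ext fun x => ?_
  rw [C.tm_mulVec (by rw [C.smul_left, C.smul_right, hv, mul_zero, mul_zero]) hc,
    C.tm_mulVec hv (C.trace_zero_mul hc (C.norm_fixed a)), C.smul_right]
  module

theorem rt_zero {x y : Fin n → F} (h : Orth2 (q := q) x y) : C.rt (n := n) x y 0 = 1 :=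
  su_ext fun z => by rw [C.rt_mulVec h, one_act]; simp

theorem rt_add {x y : Fin n → F} (h : Orth2 (q := q) x y) (c d : F) :
    C.rt x y c * C.rt x y d = C.rt x y (c + d) := by
  refine su_ext fun z => ?_
  simp only [mulVec_mul, C.rt_mulVec h, C.add_left, C.sub_left, C.smul_left, h.hx, h.hy, h.hxy,
    C.flip_zero h.hxy, map_add, mul_zero, add_zero, sub_zero]
  module

theorem rt_inv {x y : Fin n → F} (h : Orth2 (q := q) x y) (c : F) :
    (C.rt x y c)⁻¹ = C.rt x y (-c) :=
  inv_eq_of_mul_eq_one_right (by rw [C.rt_add h, add_neg_cancel, C.rt_zero h])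

theorem rt_self {x : Fin n → F} (hx : Cfsg.hermForm n F q x x = 0) (c : F) :
    C.rt x x c = C.tm x (c - C.σ c) := by
  refine su_ext fun z => ?_
  rw [C.rt_mulVec ⟨hx, hx, hx⟩, C.tm_mulVec hx (C.trace_zero_sub_conj c)]
  module

theorem rt_swap {x y : Fin n → F} (h : Orth2 (q := q) x y) (c : F) :
    C.rt y x c = C.rt x y (-C.σ c) := by
  refine su_ext fun z => ?_
  rw [C.rt_mulVec (C.orth2_symm h), C.rt_mulVec h, map_neg, C.hσ2]
  module

theorem rt_smul_right {x y : Fin n → F} (h : Orth2 (q := q) x y) (a c : F) :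
    C.rt x (a • y) c = C.rt x y (c * a) := by
  refine su_ext fun z => ?_
  rw [C.rt_mulVec (C.orth2_smul_right a h), C.rt_mulVec h, C.smul_right, map_mul]
  module

theorem rt_smul_left {x y : Fin n → F} (h : Orth2 (q := q) x y) (a c : F) :
    C.rt (a • x) y c = C.rt x y (c * C.σ a) := by
  refine su_ext fun z => ?_
  rw [C.rt_mulVec (C.orth2_smul_left a h), C.rt_mulVec h, C.smul_right, map_mul, C.hσ2]
  module

theorem rt_add_right {x y y' : Fin n → F} (h : Orth2 (q := q) x y) (h' : Orth2 (q := q) x y')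
    (ho : Cfsg.hermForm n F q y y' = 0) (c : F) :
    C.rt x (y + y') c = C.rt x y c * C.rt x y' c := by
  refine su_ext fun z => ?_
  rw [C.rt_mulVec (C.orth2_add_right h h' ho)]
  simp only [mulVec_mul, C.rt_mulVec h, C.rt_mulVec h', C.add_left, C.add_right, C.sub_left,
    C.smul_left, h.hx, h.hxy, C.flip_zero h'.hxy, C.flip_zero ho, mul_zero, add_zero, sub_zero]
  module

theorem rt_add_left {x x' y : Fin n → F} (h : Orth2 (q := q) x y) (h' : Orth2 (q := q) x' y)
    (ho : Cfsg.hermForm n F q x x' = 0) (c : F) :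
    C.rt (x + x') y c = C.rt x y c * C.rt x' y c := by
  rw [C.rt_swap (x := y) (C.orth2_add_right (C.orth2_symm h) (C.orth2_symm h') ho),
    C.rt_add_right (C.orth2_symm h) (C.orth2_symm h') ho, ← C.rt_swap (C.orth2_symm h),
    ← C.rt_swap (C.orth2_symm h')]

/-- Adding two isotropic left arguments that need not be orthogonal. -/
theorem rt_add_left_gen {x x' y : Fin n → F} (h : Orth2 (q := q) x y) (h' : Orth2 (q := q) x' y)
    (hs : Orth2 (q := q) (x + x') y) (c : F) :
    C.rt x y c * C.rt x' y c =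
      C.rt (x + x') y c * C.tm y (-(c * C.σ c * Cfsg.hermForm n F q x' x)) := by
  have hr : Cfsg.hermForm n F q x' x + C.σ (Cfsg.hermForm n F q x' x) = 0 := by
    have e := hs.hx
    rw [C.add_left, C.add_right, C.add_right, h.hx, h'.hx, zero_add, add_zero, add_comm,
      C.flip x' x] at e
    exact e
  have hc : C.σ (-(c * C.σ c * Cfsg.hermForm n F q x' x)) =
      -(-(c * C.σ c * Cfsg.hermForm n F q x' x)) := by
    rw [map_neg, map_mul, C.norm_fixed]
    linear_combination (-(c * C.σ c)) * hr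
  refine su_ext fun z => ?_
  simp only [mulVec_mul, C.rt_mulVec h, C.rt_mulVec h', C.rt_mulVec hs, C.tm_mulVec h.hy hc,
    C.add_left, C.add_right, C.sub_left, C.smul_left, h.hy, C.flip_zero h.hxy,
    C.flip_zero h'.hxy, h'.hxy, mul_zero, add_zero, sub_zero]
  module

theorem tm_add {x y : Fin n → F} {c : F} (h : Orth2 (q := q) x y) (hc : C.σ c = -c) :
    C.tm (x + y) c = C.rt x y c * C.tm y c * C.tm x c := by
  refine su_ext fun z => ?_
  have hv : Cfsg.hermForm n F q (x + y) (x + y) = 0 := by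
    rw [C.add_left, C.add_right, C.add_right, h.hx, h.hy, h.hxy, C.flip_zero h.hxy]; simp
  simp only [mulVec_mul, C.rt_mulVec h, C.tm_mulVec h.hx hc, C.tm_mulVec h.hy hc, C.tm_mulVec hv hc,
    C.add_left, C.add_right, C.smul_left, h.hx, h.hy, h.hxy, C.flip_zero h.hxy, hc, mul_zero,
    add_zero]
  module

theorem tm_add_smul {x y : Fin n → F} {c : F} (h : Orth2 (q := q) x y) (a : F) (hc : C.σ c = -c) :
    C.tm (x + a • y) c = C.rt x y (c * a) * C.tm y (c * (a * C.σ a)) * C.tm x c := by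
  rw [C.tm_add (C.orth2_smul_right a h) hc, C.rt_smul_right h, C.tm_smul a h.hy hc]

theorem commute_tm_tm {v w : Fin n → F} {c d : F} (hv : Cfsg.hermForm n F q v v = 0)
    (hw : Cfsg.hermForm n F q w w = 0) (hc : C.σ c = -c) (hd : C.σ d = -d)
    (h : Cfsg.hermForm n F q w v = 0) : Commute (C.tm v c) (C.tm w d) := by
  refine commute_of_conj ?_
  rw [C.conj_tm _ hw hd, C.tm_fix hv hc h]

theorem commute_tm_rt {v x y : Fin n → F} {c : F} (hv : Cfsg.hermForm n F q v v = 0)
    (hc : C.σ c = -c) (hp : Orth2 (q := q) x y) (hx : Cfsg.hermForm n F q x v = 0)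
    (hy : Cfsg.hermForm n F q y v = 0) (d : F) : Commute (C.tm v c) (C.rt x y d) := by
  refine commute_of_conj ?_
  rw [C.conj_rt _ hp, C.tm_fix hv hc hx, C.tm_fix hv hc hy]

theorem commute_rt_rt {x y x' y' : Fin n → F} (hp : Orth2 (q := q) x y)
    (hp' : Orth2 (q := q) x' y') (h1 : Cfsg.hermForm n F q x' x = 0)
    (h2 : Cfsg.hermForm n F q x' y = 0) (h3 : Cfsg.hermForm n F q y' x = 0)
    (h4 : Cfsg.hermForm n F q y' y = 0) (c d : F) :
    Commute (C.rt x y c) (C.rt x' y' d) := by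
  refine commute_of_conj ?_
  rw [C.conj_rt _ hp', C.rt_fix hp c h1 h2, C.rt_fix hp c h3 h4]

/-- The centres all of whose transvections lie in `K`. -/
def Wset (K : Subgroup ↥(Cfsg.SU n F q)) : Set (Fin n → F) :=
  {v | Cfsg.hermForm n F q v v = 0 ∧ ∀ c, C.σ c = -c → C.tm v c ∈ K}

theorem Wset_add {K : Subgroup ↥(Cfsg.SU n F q)} {v w : Fin n → F} (hv : v ∈ C.Wset K)
    (hw : w ∈ C.Wset K) (h0 : Cfsg.hermForm n F q v w ≠ 0)
    (h : C.σ (Cfsg.hermForm n F q v w) = -Cfsg.hermForm n F q v w) : v + w ∈ C.Wset K := by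
  have hl : C.σ (Cfsg.hermForm n F q v w)⁻¹ = -(Cfsg.hermForm n F q v w)⁻¹ := by
    rw [map_inv₀, h, inv_neg]
  have e : mat (C.tm w (Cfsg.hermForm n F q v w)⁻¹) *ᵥ v = v + w := by
    rw [C.tm_mulVec hw.1 hl, inv_mul_cancel₀ h0, one_smul]
  refine ⟨by rw [← e, form_mulVec, hv.1], fun c hc => ?_⟩
  rw [← e, ← C.conj_tm _ hv.1 hc]
  exact mul_mem (mul_mem (hw.2 _ hl) (hv.2 c hc)) (inv_mem (hw.2 _ hl))

/-- If `v + x` is a centre, `x` in a space `L` of centres not orthogonal to `v` and `h(v,x)` has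
trace zero, then `v` is a centre. -/
theorem Wset_step {K : Subgroup ↥(Cfsg.SU n F q)} {L : Submodule F (Fin n → F)}
    (hL : ∀ x ∈ L, x ∈ C.Wset K) (hiso : ∀ x ∈ L, ∀ y ∈ L, Cfsg.hermForm n F q x y = 0)
    {γ : F} (hγ : C.σ γ = -γ) (hγ0 : γ ≠ 0) {v x : Fin n → F} (hx : x ∈ L)
    (hvx : C.σ (Cfsg.hermForm n F q v x) = -Cfsg.hermForm n F q v x)
    (hp : ∃ p ∈ L, Cfsg.hermForm n F q v p ≠ 0) (h : v + x ∈ C.Wset K) : v ∈ C.Wset K := by
  by_cases h0 : Cfsg.hermForm n F q v x ≠ 0
  · have e : Cfsg.hermForm n F q (v + x) (-x) = -Cfsg.hermForm n F q v x := by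
      rw [C.neg_right, C.add_left, hiso x hx x hx, add_zero]
    have := C.Wset_add h (hL _ (L.neg_mem hx)) (by rw [e]; exact neg_ne_zero.2 h0)
      (by rw [e, map_neg, hvx])
    rwa [add_neg_cancel_right] at this
  rw [not_not] at h0
  obtain ⟨p0, hp0, hne⟩ := hp
  set p := C.σ (γ / Cfsg.hermForm n F q v p0) • p0 with hpdef
  have hpL : p ∈ L := L.smul_mem _ hp0
  have hvp : Cfsg.hermForm n F q v p = γ := by
    rw [hpdef, C.smul_right, C.hσ2, div_mul_cancel₀ _ hne]
  have e1 : Cfsg.hermForm n F q (v + x) (p - x) = γ := by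
    rw [C.sub_right, C.add_left, C.add_left, hvp, h0, hiso x hx p hpL, hiso x hx x hx]; simp
  have h1 := C.Wset_add h (hL _ (L.sub_mem hpL hx)) (by rw [e1]; exact hγ0) (by rw [e1]; exact hγ)
  rw [show v + x + (p - x) = v + p by abel] at h1
  have e2 : Cfsg.hermForm n F q (v + p) (-p) = -γ := by
    rw [C.neg_right, C.add_left, hvp, hiso p hpL p hpL, add_zero]
  have h2 := C.Wset_add h1 (hL _ (L.neg_mem hpL)) (by rw [e2]; exact neg_ne_zero.2 hγ0)
    (by rw [e2, map_neg, hγ])
  rwa [add_neg_cancel_right] at h2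

/-- A family of pairwise orthogonal isotropic centres with all short root elements in `K` spans a
space of centres. -/
theorem span_subset_Wset {K : Subgroup ↥(Cfsg.SU n F q)} {ι : Type*} (e : ι → Fin n → F)
    (horth : ∀ i j, Cfsg.hermForm n F q (e i) (e j) = 0) (hs : ∀ i j c, C.rt (e i) (e j) c ∈ K)
    (ht : ∀ i c, C.σ c = -c → C.tm (e i) c ∈ K) :
    (∀ x ∈ Submodule.span F (Set.range e), x ∈ C.Wset K) ∧
      ∀ x ∈ Submodule.span F (Set.range e), ∀ y ∈ Submodule.span F (Set.range e),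
        Cfsg.hermForm n F q x y = 0 := by
  have horth' : ∀ v ∈ Submodule.span F (Set.range e), ∀ w ∈ Submodule.span F (Set.range e),
      Cfsg.hermForm n F q v w = 0 := by
    intro v hv w hw
    induction hv, hw using Submodule.span_induction₂ with
    | mem_mem x y hx hy => obtain ⟨i, rfl⟩ := hx; obtain ⟨j, rfl⟩ := hy; exact horth i j
    | zero_left y _ => exact C.zero_left y
    | zero_right x _ => exact C.zero_right x
    | add_left x y z _ _ _ h1 h2 => rw [C.add_left, h1, h2, add_zero]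
    | add_right x y z _ _ _ h1 h2 => rw [C.add_right, h1, h2, add_zero]
    | smul_left r x y _ _ h => rw [C.smul_left, h, mul_zero]
    | smul_right r x y _ _ h => rw [C.smul_right, h, mul_zero]
  have hP : ∀ v ∈ Submodule.span F (Set.range e), ∀ w ∈ Submodule.span F (Set.range e),
      Orth2 (q := q) v w := fun v hv w hw =>
    ⟨horth' v hv v hv, horth' w hw w hw, horth' v hv w hw⟩
  have hpair : ∀ v ∈ Submodule.span F (Set.range e), ∀ j c, C.rt v (e j) c ∈ K := by
    intro v hv j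
    have hj : e j ∈ Submodule.span F (Set.range e) := Submodule.subset_span ⟨j, rfl⟩
    induction hv using Submodule.span_induction with
    | mem x hx => obtain ⟨i, rfl⟩ := hx; exact hs i j
    | zero =>
      intro c
      have h0 : Orth2 (q := q) (0 : Fin n → F) (e j) := ⟨C.zero_left _, horth j j, C.zero_left _⟩
      have : C.rt 0 (e j) c = 1 := su_ext fun z => by
        rw [C.rt_mulVec h0, one_act, C.zero_right]; simp
      rw [this]
      exact K.one_mem
    | add x y hx hy ihx ihy =>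
      intro c
      rw [C.rt_add_left (hP x hx _ hj) (hP y hy _ hj) (horth' x hx y hy)]
      exact mul_mem (ihx c) (ihy c)
    | smul r x hx ih =>
      intro c
      rw [C.rt_smul_left (hP x hx _ hj)]
      exact ih _
  have hpair' : ∀ v ∈ Submodule.span F (Set.range e), ∀ w ∈ Submodule.span F (Set.range e),
      ∀ c, C.rt v w c ∈ K := by
    intro v hv w hw
    induction hw using Submodule.span_induction with
    | mem x hx => obtain ⟨j, rfl⟩ := hx; exact hpair v hv j
    | zero =>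
      intro c
      have h0 : Orth2 (q := q) v 0 := ⟨horth' v hv v hv, C.zero_left _, C.zero_right _⟩
      have : C.rt v 0 c = 1 := su_ext fun z => by
        rw [C.rt_mulVec h0, one_act, C.zero_right]; simp
      rw [this]
      exact K.one_mem
    | add x y hx hy ihx ihy =>
      intro c
      rw [C.rt_add_right (hP v hv x hx) (hP v hv y hy) (horth' x hx y hy)]
      exact mul_mem (ihx c) (ihy c)
    | smul r x hx ih =>
      intro c
      rw [C.rt_smul_right (hP v hv x hx)]
      exact ih _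
  refine ⟨fun v hv => ⟨horth' v hv v hv, ?_⟩, horth'⟩
  induction hv using Submodule.span_induction with
  | mem x hx => obtain ⟨i, rfl⟩ := hx; exact fun c hc => ht i c hc
  | zero => intro c _; rw [C.tm_zero_vec]; exact K.one_mem
  | add x y hx hy ihx ihy =>
    intro c hc
    rw [C.tm_add (hP x hx y hy) hc]
    exact mul_mem (mul_mem (hpair' x hx y hy c) (ihy c hc)) (ihx c hc)
  | smul r x hx ih =>
    intro c hc
    rw [C.tm_smul r (horth' x hx x hx) hc]
    exact ih _ (C.trace_zero_mul hc (C.norm_fixed r))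

end Conj

end CfsgLib.RegUnipU
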