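import Cfsg.Agent.Lib.RegUnipU.Large

/-!
A frame `(e, v, f)` of the unitary 3-space with anti-diagonal Gram matrix, the elements used for
`SU_3(q)`, and the criterion: three centres not on a line give all centres.
-/

set_option autoImplicit false

namespace CfsgLib.RegUnipU

open Matrix

variable {F : Type*} [Field F] {q : ℕ}

/-- The anti-diagonal Hermitian form in dimension three. -/
def h0 (C : Conj F q) (x y : Fin 3 → F) : F :=
  x 0 * C.σ (y 2) + x 1 * C.σ (y 1) + x 2 * C.σ (y 0)

/-- An isometry from the anti-diagonal form to the standard one. -/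
structure Frame (C : Conj F q) where ofEquiv ::
  E : (Fin 3 → F) ≃ₗ[F] (Fin 3 → F)
  hE : ∀ x y, Cfsg.hermForm 3 F q (E x) (E y) = h0 C x y

theorem exists_frame [Fintype F] (hF : Fintype.card F = q ^ 2) (C : Conj F q)
    (hne : C.σ ≠ RingHom.id F) : Nonempty (Frame C) := by
  let B : (Fin 3 → F) →ₛₗ[C.σ] (Fin 3 → F) →ₗ[F] F :=
    LinearMap.mk₂'ₛₗ C.σ (RingHom.id F) (fun y x => h0 C x y)
      (fun y y' x => by simp [h0]; ring) (fun c y x => by simp [h0]; ring)
      (fun y x x' => by simp [h0]; ring) (fun c y x => by simp [h0]; ring)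
  have hS : ∀ x y, C.σ (B x y) = B y x := by
    intro x y
    show C.σ (h0 C y x) = h0 C x y
    simp [h0, C.hσ2]; ring
  have hsep : B.SeparatingLeft := by
    intro y hy
    have key : ∀ i, C.σ (y i) = 0 := by
      intro i
      have h0' : h0 C (Pi.single 0 1) y = 0 := hy _
      have h1' : h0 C (Pi.single 1 1) y = 0 := hy _
      have h2' : h0 C (Pi.single 2 1) y = 0 := hy _
      simp [h0, Pi.single_apply] at h0' h1' h2'
      fin_cases i <;> simp [h0', h1', h2']
    funext i
    exact (map_eq_zero C.σ).1 (key i)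
  obtain ⟨e, he⟩ := CfsgLib.UnitaryEmbed.exists_std_equiv hF C.σ C.hσ hne C.hσ2 B hS hsep
    (show Module.finrank F (Fin 3 → F) = 3 by simp)
  refine ⟨⟨e.symm, fun x y => ?_⟩⟩
  rw [← he, e.apply_symm_apply, e.apply_symm_apply]
  rfl

namespace Frame

variable {C : Conj F q} (R : Frame C)

/-- The matrix of `M` transported to the standard basis. -/
noncomputable def conjMat (M : Matrix (Fin 3) (Fin 3) F) : Matrix (Fin 3) (Fin 3) F :=
  LinearMap.toMatrix' (R.E.toLinearMap ∘ₗ Matrix.toLin' M ∘ₗ R.E.symm.toLinearMap)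

theorem conjMat_mulVec (M : Matrix (Fin 3) (Fin 3) F) (x : Fin 3 → F) :
    R.conjMat M *ᵥ x = R.E (M *ᵥ R.E.symm x) := by
  rw [conjMat, LinearMap.toMatrix'_mulVec]
  rfl

theorem det_conjMat (M : Matrix (Fin 3) (Fin 3) F) : (R.conjMat M).det = M.det := by
  rw [conjMat, LinearMap.det_toMatrix', LinearMap.det_conj, LinearMap.det_toLin']

theorem conjMat_mem {M : Matrix (Fin 3) (Fin 3) F} (hd : M.det = 1)
    (hp : ∀ x y, h0 C (M *ᵥ x) (M *ᵥ y) = h0 C x y) :
    (⟨R.conjMat M, (R.det_conjMat M).trans hd⟩ : Matrix.SpecialLinearGroup (Fin 3) F) ∈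
      Cfsg.SU 3 F q := by
  intro x y
  show Cfsg.hermForm 3 F q (R.conjMat M *ᵥ x) (R.conjMat M *ᵥ y) = _
  rw [R.conjMat_mulVec, R.conjMat_mulVec, R.hE, hp, ← R.hE, R.E.apply_symm_apply,
    R.E.apply_symm_apply]

open Classical in
/-- The element of `SU_3(q)` with matrix `M` in the frame. -/
noncomputable def ofMat (M : Matrix (Fin 3) (Fin 3) F) : ↥(Cfsg.SU 3 F q) :=
  if h : M.det = 1 ∧ ∀ x y, h0 C (M *ᵥ x) (M *ᵥ y) = h0 C x y then
    ⟨_, R.conjMat_mem h.1 h.2⟩
  else 1

theorem ofMat_apply {M : Matrix (Fin 3) (Fin 3) F} (hd : M.det = 1)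
    (hp : ∀ x y, h0 C (M *ᵥ x) (M *ᵥ y) = h0 C x y) (x : Fin 3 → F) :
    mat (R.ofMat M) *ᵥ R.E x = R.E (M *ᵥ x) := by
  rw [ofMat, dif_pos ⟨hd, hp⟩]
  show R.conjMat M *ᵥ R.E x = _
  rw [R.conjMat_mulVec, R.E.symm_apply_apply]

theorem ext {g h : ↥(Cfsg.SU 3 F q)} (H : ∀ x, mat g *ᵥ R.E x = mat h *ᵥ R.E x) : g = h :=
  su_ext fun v => by simpa using H (R.E.symm v)

theorem vec_eq {a b c a' b' c' : F} (h1 : a = a') (h2 : b = b') (h3 : c = c') :
    (![a, b, c] : Fin 3 → F) = ![a', b', c'] := by rw [h1, h2, h3]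

theorem smul_vec (r a b c : F) : r • (![a, b, c] : Fin 3 → F) = ![r * a, r * b, r * c] := by
  ext i; fin_cases i <;> simp

theorem eta (x : Fin 3 → F) : x = ![x 0, x 1, x 2] := by
  ext i; fin_cases i <;> simp

/-- The lower unitriangular element `e ↦ e + z v + s f`. -/
noncomputable def low (z s : F) : ↥(Cfsg.SU 3 F q) :=
  R.ofMat !![1, 0, 0; z, 1, 0; s, -C.σ z, 1]

theorem low_apply {z s : F} (hs : s + C.σ s = -(z * C.σ z)) (a b c : F) :
    mat (R.low z s) *ᵥ R.E ![a, b, c] = R.E ![a, z * a + b, s * a - C.σ z * b + c] := by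
  rw [low, R.ofMat_apply (by simp [det_fin_three]) (fun x y => ?_)]
  · congr 1
    ext i; fin_cases i <;> simp [mulVec, dotProduct, Fin.sum_univ_three]
    ring
  · simp [h0, mulVec, dotProduct, Fin.sum_univ_three, C.hσ2]
    linear_combination (x 0 * C.σ (y 0)) * hs

/-- The torus element `diag(a, a⁻², a)`, `a` of norm one. -/
noncomputable def hom (a : F) : ↥(Cfsg.SU 3 F q) :=
  R.ofMat !![a, 0, 0; 0, a⁻¹ * a⁻¹, 0; 0, 0, a]

theorem hom_apply {a : F} (ha : a * C.σ a = 1) (x y z : F) :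
    mat (R.hom a) *ᵥ R.E ![x, y, z] = R.E ![a * x, a⁻¹ * a⁻¹ * y, a * z] := by
  have ha0 : a ≠ 0 := left_ne_zero_of_mul_eq_one ha
  have hσ : C.σ a = a⁻¹ := eq_inv_of_mul_eq_one_right ha
  rw [hom, R.ofMat_apply (by simp [det_fin_three]; field_simp) (fun x y => ?_)]
  · congr 1
    ext i; fin_cases i <;> simp [mulVec, dotProduct, Fin.sum_univ_three]
  · simp [h0, mulVec, dotProduct, Fin.sum_univ_three, hσ]
    field_simp

theorem E_form (a b c a' b' c' : F) :
    Cfsg.hermForm 3 F q (R.E ![a, b, c]) (R.E ![a', b', c']) =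
      a * C.σ c' + b * C.σ b' + c * C.σ a' := by
  rw [R.hE]; simp [h0]

theorem tme_apply {l : F} (hl : C.σ l = -l) (a b c : F) :
    mat (C.tm (R.E ![1, 0, 0]) l) *ᵥ R.E ![a, b, c] = R.E ![a + l * c, b, c] := by
  rw [C.tm_mulVec (by rw [R.E_form]; simp) hl, R.E_form, ← map_smul, ← map_add]
  congr 1
  rw [smul_vec]
  ext i; fin_cases i <;> simp

theorem tmf_apply {l : F} (hl : C.σ l = -l) (a b c : F) :
    mat (C.tm (R.E ![0, 0, 1]) l) *ᵥ R.E ![a, b, c] = R.E ![a, b, c + l * a] := by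
  rw [C.tm_mulVec (by rw [R.E_form]; simp) hl, R.E_form, ← map_smul, ← map_add]
  congr 1
  rw [smul_vec]
  ext i; fin_cases i <;> simp

theorem ext3 {g h : ↥(Cfsg.SU 3 F q)}
    (H : ∀ a b c, mat g *ᵥ R.E ![a, b, c] = mat h *ᵥ R.E ![a, b, c]) : g = h :=
  R.ext fun x => by rw [eta x]; exact H _ _ _

end Frame

theorem Wset_smul (C : Conj F q) {n : ℕ} {K : Subgroup ↥(Cfsg.SU n F q)} {v : Fin n → F}
    (hv : v ∈ C.Wset K) (r : F) : r • v ∈ C.Wset K := by
  refine ⟨by rw [C.smul_left, C.smul_right, hv.1, mul_zero, mul_zero], fun c hc => ?_⟩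
  rw [C.tm_smul r hv.1 hc]
  exact hv.2 _ (C.trace_zero_mul hc (C.norm_fixed r))

/-- Three pairwise non-orthogonal centres spanning the space give all centres. -/
theorem all_centres_three [Fintype F] (hF : Fintype.card F = q ^ 2) (C : Conj F q)
    {K : Subgroup ↥(Cfsg.SU 3 F q)} {e f x : Fin 3 → F} (he : e ∈ C.Wset K) (hf : f ∈ C.Wset K)
    (hx : x ∈ C.Wset K) (hef : Cfsg.hermForm 3 F q e f ≠ 0)
    (hspan : x ∉ Submodule.span F {e, f}) : ∀ v, Cfsg.hermForm 3 F q v v = 0 → v ∈ C.Wset K := by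
  -- normalise `h(f, e) = 1`
  set f' := (Cfsg.hermForm 3 F q f e)⁻¹ • f with hf'
  have hfe0 : Cfsg.hermForm 3 F q f e ≠ 0 := fun h => hef (C.flip_zero h)
  have hf'W : f' ∈ C.Wset K := Wset_smul C hf _
  have hfe : Cfsg.hermForm 3 F q f' e = 1 := by rw [hf', C.smul_left, inv_mul_cancel₀ hfe0]
  have hef' : Cfsg.hermForm 3 F q e f' = 1 := by rw [C.flip, hfe, map_one]
  have hee := he.1
  have hff := hf'W.1
  have hsp : Submodule.span F {e, f'} = Submodule.span F {e, f} := by
    rw [Submodule.span_insert, Submodule.span_insert, hf',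
      Submodule.span_singleton_smul_eq (isUnit_iff_ne_zero.2 (inv_ne_zero hfe0))]
  rw [← hsp] at hspan
  set w := x - Cfsg.hermForm 3 F q x f' • e - Cfsg.hermForm 3 F q x e • f' with hwdef
  have hwe : Cfsg.hermForm 3 F q w e = 0 := by
    rw [hwdef, C.sub_left, C.sub_left, C.smul_left, C.smul_left, hee, hfe]; ring
  have hwf : Cfsg.hermForm 3 F q w f' = 0 := by
    rw [hwdef, C.sub_left, C.sub_left, C.smul_left, C.smul_left, hef', hff]; ring
  have hew := C.flip_zero hwe
  have hfw := C.flip_zero hwf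
  have hw0 : w ≠ 0 := by
    intro h
    apply hspan
    rw [hwdef, sub_sub, sub_eq_zero] at h
    rw [h]
    exact Submodule.add_mem _ (Submodule.smul_mem _ _ (Submodule.subset_span (by simp)))
      (Submodule.smul_mem _ _ (Submodule.subset_span (by simp)))
  have hindep : LinearIndependent F ![e, w, f'] := by
    rw [Fintype.linearIndependent_iff]
    intro g hg
    simp [Fin.sum_univ_three] at hg
    have h2 : g 2 = 0 := by
      have := congrArg (fun u => Cfsg.hermForm 3 F q u e) hg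
      simpa [C.add_left, C.smul_left, C.zero_left, hee, hwe, hfe] using this
    have h0 : g 0 = 0 := by
      have := congrArg (fun u => Cfsg.hermForm 3 F q u f') hg
      simpa [C.add_left, C.smul_left, C.zero_left, hef', hwf, hff] using this
    rw [h0, h2, zero_smul, zero_smul, zero_add, add_zero, smul_eq_zero] at hg
    intro i
    fin_cases i
    exacts [h0, hg.resolve_right hw0, h2]
  have htop : Submodule.span F (Set.range ![e, w, f']) = ⊤ :=
    hindep.span_eq_top_of_card_eq_finrank' (by simp)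
  have hcoord : ∀ v, ∃ α β δ : F, v = α • e + β • w + δ • f' := by
    intro v
    obtain ⟨g, hg⟩ := (Submodule.mem_span_range_iff_exists_fun F).1
      (show v ∈ Submodule.span F (Set.range ![e, w, f']) by rw [htop]; exact Submodule.mem_top)
    exact ⟨g 0, g 1, g 2, by rw [← hg]; simp [Fin.sum_univ_three]⟩
  set T := Cfsg.hermForm 3 F q w w with hTdef
  have hT : T ≠ 0 := by
    intro hT
    apply hw0
    have hall : ∀ v, Cfsg.hermForm 3 F q v w = 0 := by
      intro v
      obtain ⟨α, β, δ, rfl⟩ := hcoord v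
      rw [C.add_left, C.add_left, C.smul_left, C.smul_left, C.smul_left, hew, ← hTdef, hT, hfw]; ring
    funext i
    have := hall (Pi.single i 1)
    rw [C.form_eq] at this
    simpa [Pi.single_apply] using this
  -- the self-product of a coordinate vector
  have hself : ∀ α β δ : F, Cfsg.hermForm 3 F q (α • e + β • w + δ • f') (α • e + β • w + δ • f') =
      α * C.σ δ + δ * C.σ α + β * C.σ β * T := by
    intro α β δ
    simp only [C.add_left, C.add_right, C.smul_left, C.smul_right, hee, hff, hew, hwe, hwf, hfw,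
      hef', hfe, ← hTdef]
    ring
  -- adding a multiple of `e`
  have hmove : ∀ (y : Fin 3 → F) (j : F), y ∈ C.Wset K → C.σ j = -j →
      Cfsg.hermForm 3 F q y e = 1 → y + j • e ∈ C.Wset K := by
    intro y j hy hj hye
    by_cases hj0 : j = 0
    · simpa [hj0] using hy
    have h : Cfsg.hermForm 3 F q y (j • e) = -j := by rw [C.smul_right, hye, mul_one, hj]
    exact C.Wset_add hy (Wset_smul C he j) (by rw [h]; exact neg_ne_zero.2 hj0)
      (by rw [h, map_neg, hj])
  -- the set of middle coordinates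
  let Z : F → Prop := fun z => ∀ s, s + C.σ s = -(z * C.σ z * T) → s • e + z • w + f' ∈ C.Wset K
  have hye : ∀ s z : F, Cfsg.hermForm 3 F q (s • e + z • w + f') e = 1 := by
    intro s z
    rw [C.add_left, C.add_left, C.smul_left, C.smul_left, hee, hwe, hfe]; ring
  have hZ_of : ∀ z s, s + C.σ s = -(z * C.σ z * T) → s • e + z • w + f' ∈ C.Wset K → Z z := by
    intro z s hs h s' hs'
    have := hmove _ (s' - s) h (by rw [map_sub]; linear_combination hs' - hs) (hye s z)
    rwa [show s • e + z • w + f' + (s' - s) • e = s' • e + z • w + f' by module] at this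
  have hZ0 : Z 0 := hZ_of 0 0 (by simp) (by simpa using hf'W)
  -- the given point
  obtain ⟨α, β, δ, hxc⟩ := hcoord x
  have hxx := hx.1
  rw [hxc, hself] at hxx
  have hβ : β ≠ 0 := by
    intro h
    apply hspan
    rw [hxc, h, zero_smul, add_zero]
    exact Submodule.add_mem _ (Submodule.smul_mem _ _ (Submodule.subset_span (by simp)))
      (Submodule.smul_mem _ _ (Submodule.subset_span (by simp)))
  have hδ : δ ≠ 0 := by
    intro h
    rw [h] at hxx
    simp [hT, hβ] at hxx
  have hZ1 : Z (β / δ) := by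
    refine hZ_of _ (α / δ) ?_ ?_
    · rw [map_div₀, map_div₀]
      have : C.σ δ ≠ 0 := (map_ne_zero C.σ).2 hδ
      field_simp
      linear_combination hxx
    · have := Wset_smul C hx δ⁻¹
      rwa [hxc, show δ⁻¹ • (α • e + β • w + δ • f') = (α / δ) • e + (β / δ) • w + f' by
        match_scalars <;> field_simp] at this
  have hstep : ∀ z η : F, z ≠ 0 → Z z → C.σ η ≠ η → Z (z * η) := by
    intro z η hz hZz hη
    have hη0 : η ≠ 0 := fun h => hη (by rw [h, map_zero])
    set W := η⁻¹ - 1 with hW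
    set D := -(z * C.σ z * T) with hD
    have hD0 : D ≠ 0 := by simp [hD, hz, hT]
    have hWne : W - C.σ W ≠ 0 := by
      rw [hW, map_sub, map_inv₀, map_one, show η⁻¹ - 1 - ((C.σ η)⁻¹ - 1) = η⁻¹ - (C.σ η)⁻¹ by ring,
        sub_ne_zero]
      exact fun h => hη (inv_injective h).symm
    have hDσ : C.σ D = D := by
      simp only [hD, map_neg, map_mul, C.hσ2, hTdef, ← C.flip w w]; ring
    set l := (W - C.σ W) / D with hl
    have hl0 : l ≠ 0 := div_ne_zero hWne hD0
    have hlσ : C.σ l = -l := by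
      rw [hl, map_div₀, map_sub, C.hσ2, hDσ, ← neg_div, neg_sub]
    set s := W / l with hs
    have hsD : s + C.σ s = D := by
      rw [hs, map_div₀, hlσ, div_neg, ← sub_eq_add_neg, ← sub_div, hl, div_div_eq_mul_div,
        mul_div_assoc, mul_comm, div_mul_cancel₀]
      exact hWne
    have hy := hZz s hsD
    have hyf : Cfsg.hermForm 3 F q (s • e + z • w + f') f' = s := by
      rw [C.add_left, C.add_left, C.smul_left, C.smul_left, hef', hwf, hff]; ring
    have hls : l * s = η⁻¹ - 1 := by rw [hs, mul_div_cancel₀ _ hl0]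
    have e1 : mat (C.tm f' l) *ᵥ (s • e + z • w + f') = η⁻¹ • ((s * η) • e + (z * η) • w + f') := by
      rw [C.tm_mulVec hff hlσ, hyf, hls]
      match_scalars <;> field_simp
      ring
    have hy' : mat (C.tm f' l) *ᵥ (s • e + z • w + f') ∈ C.Wset K := by
      refine ⟨by rw [form_mulVec, hy.1], fun c hc => ?_⟩
      rw [← C.conj_tm _ hy.1 hc]
      exact mul_mem (mul_mem (hf'W.2 _ hlσ) (hy.2 c hc)) (inv_mem (hf'W.2 _ hlσ))
    rw [e1] at hy'
    have hy'' := Wset_smul C hy' η
    rw [smul_smul, mul_inv_cancel₀ hη0, one_smul] at hy''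
    refine hZ_of _ (s * η) ?_ hy''
    have := hy''.1
    rw [show (s * η) • e + (z * η) • w + f' = (s * η) • e + (z * η) • w + (1 : F) • f' by
      rw [one_smul], hself, map_one, one_mul, mul_one] at this
    linear_combination this
  obtain ⟨_, hne⟩ := exists_conjugation hF
  obtain ⟨ξ, hξ⟩ : ∃ ξ, C.σ ξ ≠ ξ := by
    by_contra h
    push Not at h
    obtain ⟨C', hne'⟩ := exists_conjugation hF
    exact hne' (RingHom.ext fun y => by rw [C'.hσ, ← C.hσ, h, RingHom.id_apply])
  have hZall : ∀ z, Z z := by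
    intro z
    by_cases hz : z = 0
    · rw [hz]; exact hZ0
    have hz1 : β / δ ≠ 0 := div_ne_zero hβ hδ
    set η := z / (β / δ) with hη
    have hη0 : η ≠ 0 := div_ne_zero hz hz1
    have hzη : β / δ * η = z := mul_div_cancel₀ _ hz1
    by_cases hreal : C.σ η ≠ η
    · rw [← hzη]; exact hstep _ _ hz1 hZ1 hreal
    rw [not_not] at hreal
    have hξ0 : ξ ≠ 0 := fun h => hξ (by rw [h, map_zero])
    have := hstep _ (η / ξ) (mul_ne_zero hz1 hξ0) (hstep _ _ hz1 hZ1 hξ) (by
      rw [map_div₀, hreal]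
      intro h
      apply hξ
      rw [div_eq_div_iff ((map_ne_zero C.σ).2 hξ0) hξ0] at h
      exact (mul_left_cancel₀ hη0 h).symm)
    rwa [mul_assoc, mul_div_cancel₀ _ hξ0, hzη] at this
  intro v hv
  obtain ⟨a, b, c, rfl⟩ := hcoord v
  rw [hself] at hv
  by_cases hc : c = 0
  · rw [hc] at hv ⊢
    have hb : b = 0 := by simpa [hT] using hv
    rw [hb, zero_smul, zero_smul, add_zero, add_zero]
    exact Wset_smul C he a
  have hz : Z (b / c) := hZall _
  have := Wset_smul C (hz (a / c) (by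
    rw [map_div₀, map_div₀]
    have : C.σ c ≠ 0 := (map_ne_zero C.σ).2 hc
    field_simp
    linear_combination hv)) c
  rwa [show c • ((a / c) • e + (b / c) • w + f') = a • e + b • w + c • f' by
    match_scalars <;> field_simp] at this

end CfsgLib.RegUnipU
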