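import Cfsg.Agent.Lib.RegUnipU.Model

/-!
The subgroup of `SU_{2r+1}(q)` generated by the regular unipotent `U`, a transvection at `a₀` and a short
root element at `(a₀, a₁)` contains all transvections.
-/

set_option autoImplicit false

namespace CfsgLib.RegUnipU

open Matrix

variable {F : Type*} [Field F] {q r : ℕ} {κ : F} {C : Conj F q}

namespace Model

variable (M : Model C r κ)

theorem orth {i j : ℤ} (h1 : i - r < j) (h2 : j < i + r) :
    Cfsg.hermForm (2 * r + 1) F q (M.a i) (M.a j) = 0 := by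
  rw [M.form]; exact M.φ_small _ (by omega) (by omega)

theorem iso (hr : 2 ≤ r) (i : ℤ) : Cfsg.hermForm (2 * r + 1) F q (M.a i) (M.a i) = 0 :=
  M.orth (by omega) (by omega)

theorem form_top (i : ℤ) : Cfsg.hermForm (2 * r + 1) F q (M.a i) (M.a (i + r)) = κ := by
  rw [M.form, add_sub_cancel_left, M.φ_top]

theorem form_bot (i : ℤ) : Cfsg.hermForm (2 * r + 1) F q (M.a (i + r)) (M.a i) = C.σ κ := by
  rw [C.flip, form_top]

theorem orth2 (hr : 2 ≤ r) {i j : ℤ} (h1 : i - r < j) (h2 : j < i + r) :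
    Conj.Orth2 (q := q) (M.a i) (M.a j) :=
  ⟨M.iso hr i, M.iso hr j, M.orth h1 h2⟩

theorem inv_act (j : ℤ) : mat M.U⁻¹ *ᵥ M.a j = M.a (j - 1) :=
  inv_fix ((M.act (j - 1)).trans (by rw [sub_add_cancel]))

theorem zpow_act (s j : ℤ) : mat (M.U ^ s) *ᵥ M.a j = M.a (j + s) := by
  induction s using Int.induction_on generalizing j with
  | zero => rw [zpow_zero, one_act, add_zero]
  | succ i ih => rw [_root_.zpow_add_one, mulVec_mul, M.act, ih]; ring_nf
  | pred i ih => rw [_root_.zpow_sub_one, mulVec_mul, inv_act, ih]; ring_nf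

theorem tm_shift_mem (hr : 2 ≤ r) {K : Subgroup ↥(Cfsg.SU (2 * r + 1) F q)} (hU : M.U ∈ K) {i : ℤ}
    {c : F} (hc : C.σ c = -c) (h : C.tm (M.a i) c ∈ K) (j : ℤ) : C.tm (M.a j) c ∈ K := by
  have := mul_mem (mul_mem (zpow_mem hU (j - i)) h) (inv_mem (zpow_mem hU (j - i)))
  rwa [C.conj_tm _ (M.iso hr i) hc, zpow_act, add_sub_cancel] at this

theorem rt_shift_mem (hr : 2 ≤ r) {K : Subgroup ↥(Cfsg.SU (2 * r + 1) F q)} (hU : M.U ∈ K)
    {i d : ℤ} (h1 : -(r : ℤ) < d) (h2 : d < r) {c : F}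
    (h : C.rt (M.a i) (M.a (i + d)) c ∈ K) (j : ℤ) : C.rt (M.a j) (M.a (j + d)) c ∈ K := by
  have := mul_mem (mul_mem (zpow_mem hU (j - i)) h) (inv_mem (zpow_mem hU (j - i)))
  rwa [C.conj_rt _ (M.orth2 hr (by omega) (by omega)), zpow_act, zpow_act,
    show i + d + (j - i) = j + d by ring, add_sub_cancel] at this

/-- `t_{a_r}(c) R(a_0, a_1; e) t_{a_r}(c)⁻¹`. -/
noncomputable def gEl (c e : F) : ↥(Cfsg.SU (2 * r + 1) F q) :=
  C.tm (M.a r) c * C.rt (M.a 0) (M.a 1) e * (C.tm (M.a r) c)⁻¹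

theorem gEl_eq (hr : 2 ≤ r) {c : F} (hc : C.σ c = -c) (e : F) :
    M.gEl c e = C.rt (M.a 0 + (c * κ) • M.a r) (M.a 1) e := by
  have h : Cfsg.hermForm (2 * r + 1) F q (M.a 0) (M.a r) = κ := by simpa using M.form_top 0
  rw [gEl, C.conj_rt _ (M.orth2 hr (by omega) (by omega)), C.tm_mulVec (M.iso hr _) hc, h,
    C.tm_fix (M.iso hr _) hc (M.orth (by omega) (by omega))]

theorem gEl_orth (hr : 2 ≤ r) {c : F} (hc : C.σ c = -c) :
    Conj.Orth2 (q := q) (M.a 0 + (c * κ) • M.a r) (M.a 1) := by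
  have h : Cfsg.hermForm (2 * r + 1) F q (M.a 0) (M.a r) = κ := by simpa using M.form_top 0
  have e : mat (C.tm (M.a r) c) *ᵥ M.a 0 = M.a 0 + (c * κ) • M.a r := by
    rw [C.tm_mulVec (M.iso hr _) hc, h]
  rw [← e]
  refine ⟨by rw [form_mulVec, M.iso hr], M.iso hr _, ?_⟩
  rw [← C.tm_fix (M.iso hr r) hc (x := M.a 1) (M.orth (by omega) (by omega)), form_mulVec,
    M.orth (by omega) (by omega)]

theorem gEl_a0 (hr : 2 ≤ r) {c : F} (hc : C.σ c = -c) (e : F) :
    mat (M.gEl c e) *ᵥ M.a 0 = M.a 0 + (-(e * c * (κ * C.σ κ))) • M.a 1 := by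
  have h : Cfsg.hermForm (2 * r + 1) F q (M.a 0) (M.a r) = κ := by simpa using M.form_top 0
  rw [M.gEl_eq hr hc, C.rt_mulVec (M.gEl_orth hr hc), C.add_right, C.smul_right, M.iso hr, h,
    M.orth (i := 0) (j := 1) (by omega) (by omega), map_mul, hc]
  module

theorem gEl_fix (hr : 2 ≤ r) {c : F} (hc : C.σ c = -c) (e : F) {j : ℤ} (h1 : 0 < j) (h2 : j < r) :
    mat (M.gEl c e) *ᵥ M.a j = M.a j := by
  rw [M.gEl_eq hr hc]
  refine C.rt_fix (M.gEl_orth hr hc) e ?_ (M.orth (by omega) (by omega))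
  rw [C.add_right, C.smul_right, M.orth (by omega) (by omega), M.orth (by omega) (by omega)]
  simp

/-- `t_{a_{1-r}}(c) R(a_0, a_1; e) t_{a_{1-r}}(c)⁻¹` moves `a_1` towards `a_0`. -/
noncomputable def gEl' (c e : F) : ↥(Cfsg.SU (2 * r + 1) F q) :=
  C.tm (M.a (1 - r)) c * C.rt (M.a 0) (M.a 1) e * (C.tm (M.a (1 - r)) c)⁻¹

theorem gEl'_data (hr : 2 ≤ r) {c e : F} (hc : C.σ c = -c) (he : C.σ e = e) :
    mat (M.gEl' c e) *ᵥ M.a 1 = M.a 1 + (e * c * (κ * C.σ κ)) • M.a 0 ∧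
      ∀ k : ℤ, 1 - (r : ℤ) < k → k ≤ 0 → mat (M.gEl' c e) *ᵥ M.a k = M.a k := by
  have h : Cfsg.hermForm (2 * r + 1) F q (M.a 1) (M.a (1 - r)) = C.σ κ := by
    simpa using M.form_bot (1 - r)
  have h0 : Cfsg.hermForm (2 * r + 1) F q (M.a 0) (M.a (1 - r)) = 0 := M.orth (by omega) (by omega)
  have hx : mat (C.tm (M.a (1 - r)) c) *ᵥ M.a 0 = M.a 0 := C.tm_fix (M.iso hr _) hc h0
  have hy : mat (C.tm (M.a (1 - r)) c) *ᵥ M.a 1 = M.a 1 + (c * C.σ κ) • M.a (1 - r) := by
    rw [C.tm_mulVec (M.iso hr _) hc, h]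
  have eq : M.gEl' c e = C.rt (M.a 0) (M.a 1 + (c * C.σ κ) • M.a (1 - r)) e := by
    rw [gEl', C.conj_rt _ (M.orth2 hr (by omega) (by omega)), hx, hy]
  have ho : Conj.Orth2 (q := q) (M.a 0) (M.a 1 + (c * C.σ κ) • M.a (1 - r)) := by
    refine ⟨M.iso hr _, by rw [← hy, form_mulVec, M.iso hr], ?_⟩
    rw [C.add_right, C.smul_right, h0, M.orth (by omega) (by omega)]; simp
  refine ⟨?_, fun k h1 h2 => ?_⟩
  · rw [eq, C.rt_mulVec ho, C.add_right, C.smul_right, M.iso hr, h,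
      M.orth (i := 1) (j := 0) (by omega) (by omega), map_mul, hc, C.hσ2, he]
    module
  · rw [eq]
    refine C.rt_fix ho e (M.orth (by omega) (by omega)) ?_
    rw [C.add_right, C.smul_right, M.orth (by omega) (by omega), M.orth (by omega) (by omega)]
    simp

/-- `R(a_{r-1}, a_r; e)` moves `a₀` by a multiple of `a_{r-1}` and fixes `a_{r-1}`. -/
theorem long_a0 (hr : 2 ≤ r) {e : F} (he : C.σ e = e) :
    mat (C.rt (M.a (r - 1)) (M.a r) e) *ᵥ M.a 0 = M.a 0 + (-(e * κ)) • M.a (r - 1) := by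
  have h : Cfsg.hermForm (2 * r + 1) F q (M.a 0) (M.a r) = κ := by simpa using M.form_top 0
  rw [C.rt_mulVec (M.orth2 hr (by omega) (by omega)), h,
    M.orth (i := 0) (j := (r : ℤ) - 1) (by omega) (by omega), he]
  module

variable {K : Subgroup ↥(Cfsg.SU (2 * r + 1) F q)}

/-- The product `R(0, r-1; c·u) t_{r-1}(c·Nu)` obtained from `t_{a_0}(c)`, where `u = -e κ`. -/
theorem long_mem (hr : 2 ≤ r) (hU : M.U ∈ K) {e l : F} (he : C.σ e = e) (hl : C.σ l = -l)
    (hs : C.rt (M.a 0) (M.a 1) e ∈ K) (ht : C.tm (M.a 0) l ∈ K) :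
    C.rt (M.a 0) (M.a (r - 1)) (l * -(e * κ)) *
      C.tm (M.a (r - 1)) (l * (-(e * κ) * C.σ (-(e * κ)))) ∈ K := by
  have hR : C.rt (M.a (r - 1)) (M.a r) e ∈ K := by
    have := M.rt_shift_mem hr hU (i := 0) (d := 1) (by omega) (by omega) (by simpa using hs)
      ((r : ℤ) - 1)
    rwa [sub_add_cancel] at this
  have := mul_mem (mul_mem (mul_mem hR ht) (inv_mem hR)) (inv_mem ht)
  rwa [C.conj_tm _ (M.iso hr 0) hl, M.long_a0 hr he,
    C.tm_add_smul (M.orth2 hr (by omega) (by omega)) _ hl, mul_inv_cancel_right] at this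

/-- Descending from `(0, j+1)` to `(0, 1)`. -/
theorem descend_mem (hr : 2 ≤ r) (hU : M.U ∈ K) {g e : F} (hg : C.σ g = -g) (he : C.σ e = e)
    (hs : C.rt (M.a 0) (M.a 1) e ∈ K) (ht : C.tm (M.a 0) g ∈ K) (d : ℕ) :
    d + 1 < r → ∀ c, C.rt (M.a 0) (M.a ((d : ℤ) + 1)) c ∈ K →
      C.rt (M.a 0) (M.a 1) (c * (e * g * (κ * C.σ κ)) ^ d) ∈ K := by
  induction d with
  | zero => intro _ c h; simpa using h
  | succ d ih =>
    intro hd c h
    have hg' : M.gEl' g e ∈ K :=
      mul_mem (mul_mem (M.tm_shift_mem hr hU hg ht _) hs) (inv_mem (M.tm_shift_mem hr hU hg ht _))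
    have hG := mul_mem (mul_mem (zpow_mem hU ((d : ℤ) + 1)) hg') (inv_mem (zpow_mem hU ((d : ℤ) + 1)))
    set G := M.U ^ ((d : ℤ) + 1) * M.gEl' g e * (M.U ^ ((d : ℤ) + 1))⁻¹ with hGdef
    obtain ⟨e1, e0⟩ := M.gEl'_data hr hg he
    have G0 : mat G *ᵥ M.a 0 = M.a 0 := by
      rw [hGdef, mulVec_mul, mulVec_mul,
        inv_fix (show mat (M.U ^ ((d : ℤ) + 1)) *ᵥ M.a (-((d : ℤ) + 1)) = M.a 0 by
          rw [zpow_act, neg_add_cancel]),
        e0 _ (by omega) (by omega), zpow_act, neg_add_cancel]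
    have G1 : mat G *ᵥ M.a ((d : ℤ) + 2) =
        M.a ((d : ℤ) + 2) + (e * g * (κ * C.σ κ)) • M.a ((d : ℤ) + 1) := by
      rw [hGdef, mulVec_mul, mulVec_mul,
        inv_fix (show mat (M.U ^ ((d : ℤ) + 1)) *ᵥ M.a 1 = M.a ((d : ℤ) + 2) by
          rw [zpow_act]; ring_nf),
        e1, mulVec_add, mulVec_smul, zpow_act, zpow_act, zero_add,
        show (1 : ℤ) + ((d : ℤ) + 1) = (d : ℤ) + 2 by ring]
    rw [show (((d + 1 : ℕ) : ℤ) + 1) = (d : ℤ) + 2 by push_cast; ring] at h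
    have h2 := mul_mem (inv_mem h) (mul_mem (mul_mem hG h) (inv_mem hG))
    rw [C.conj_rt _ (M.orth2 hr (by omega) (by omega)), G0, G1,
      C.rt_add_right (M.orth2 hr (by omega) (by omega))
        (C.orth2_smul_right _ (M.orth2 hr (by omega) (by omega)))
        (by rw [C.smul_right, M.orth (by omega) (by omega), mul_zero]),
      C.rt_smul_right (M.orth2 hr (by omega) (by omega)), inv_mul_cancel_left] at h2
    have := ih (by omega) _ h2
    rwa [mul_assoc, ← pow_succ'] at this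

theorem conj_quot {G : Type*} [Group G] {X T : G} (S : G) (h : Commute X T) :
    (S * T)⁻¹ * (S * X * T) = X := by
  rw [mul_assoc S, h.eq]; group

/-- `R(a₀,a₁;c) t_{a₁}(d) ∈ K` gives a transvection at `a₁`. -/
theorem square_mem (hr : 2 ≤ r) {g e : F} (hg : C.σ g = -g) (hgK : M.gEl g e ∈ K) {c d : F}
    (hd : C.σ d = -d) (h : C.rt (M.a 0) (M.a 1) c * C.tm (M.a 1) d ∈ K) :
    C.tm (M.a 1) (c * C.σ (-(e * g * (κ * C.σ κ))) - C.σ (c * C.σ (-(e * g * (κ * C.σ κ))))) ∈ K := by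
  have h01 : Conj.Orth2 (q := q) (M.a 0) (M.a 1) := M.orth2 hr (by omega) (by omega)
  have h11 : Conj.Orth2 (q := q) (M.a 1) (M.a 1) := M.orth2 hr (by omega) (by omega)
  have h2 := mul_mem (inv_mem h) (mul_mem (mul_mem hgK h) (inv_mem hgK))
  have e2 : M.gEl g e * (C.rt (M.a 0) (M.a 1) c * C.tm (M.a 1) d) * (M.gEl g e)⁻¹ =
      (M.gEl g e * C.rt (M.a 0) (M.a 1) c * (M.gEl g e)⁻¹) *
        (M.gEl g e * C.tm (M.a 1) d * (M.gEl g e)⁻¹) := by group
  rw [e2, C.conj_rt _ h01, C.conj_tm _ (M.iso hr 1) hd, M.gEl_a0 hr hg,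
    M.gEl_fix hr hg e (j := 1) (by omega) (by omega),
    C.rt_add_left h01 (C.orth2_smul_left _ h11)
      (by rw [C.smul_right, M.orth (by omega) (by omega), mul_zero]),
    C.rt_smul_left h11, C.rt_self (M.iso hr 1)] at h2
  rwa [conj_quot _ (C.commute_tm_tm (M.iso hr 1) (M.iso hr 1) (C.trace_zero_sub_conj _) hd
    (M.iso hr 1))] at h2

/-- A subgroup containing `U`, all transvections at `a₀` and all short root elements at `(a₀,a₁)`
contains every transvection. -/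
theorem all_centres (hr : 2 ≤ r) {g : F} (hg : C.σ g = -g) (hg0 : g ≠ 0) (hκ0 : κ ≠ 0)
    (hU : M.U ∈ K) (ht0 : ∀ c, C.σ c = -c → C.tm (M.a 0) c ∈ K)
    (hs0 : ∀ c, C.rt (M.a 0) (M.a 1) c ∈ K) (v : Fin (2 * r + 1) → F)
    (hv : Cfsg.hermForm (2 * r + 1) F q v v = 0) : v ∈ C.Wset K := by
  have hσκ : C.σ κ ≠ 0 := (map_ne_zero C.σ).2 hκ0
  have ht : ∀ j c, C.σ c = -c → C.tm (M.a j) c ∈ K := fun j c hc =>
    M.tm_shift_mem hr hU hc (ht0 c hc) j
  have hs : ∀ j c, C.rt (M.a j) (M.a (j + 1)) c ∈ K := fun j c =>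
    M.rt_shift_mem hr hU (i := 0) (d := 1) (by omega) (by omega) (by simpa using hs0 c) j
  have hpair : ∀ d : ℕ, d < r → ∀ i c, C.rt (M.a i) (M.a (i + d)) c ∈ K := by
    intro d
    induction d with
    | zero =>
      intro _ i c
      rw [Nat.cast_zero, add_zero, C.rt_self (M.iso hr i)]
      exact ht _ _ (C.trace_zero_sub_conj c)
    | succ d ih =>
      intro hd i c
      rcases Nat.eq_zero_or_pos d with hd0 | hd0
      · subst hd0; simpa using hs i c
      set j := i + (d : ℤ) with hj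
      rw [show i + ((d + 1 : ℕ) : ℤ) = j + 1 by rw [hj]; push_cast; ring]
      set ρ := -(1 * g * (κ * C.σ κ)) with hρdef
      have hρ : ρ ≠ 0 := by simp [hρdef, hg0, hκ0, hσκ]
      have hG : M.U ^ j * M.gEl g 1 * (M.U ^ j)⁻¹ ∈ K :=
        mul_mem (mul_mem (zpow_mem hU j)
          (mul_mem (mul_mem (ht _ g hg) (hs0 1)) (inv_mem (ht _ g hg)))) (inv_mem (zpow_mem hU j))
      set G := M.U ^ j * M.gEl g 1 * (M.U ^ j)⁻¹ with hGdef
      have Gj : mat G *ᵥ M.a j = M.a j + ρ • M.a (j + 1) := by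
        rw [hGdef, mulVec_mul, mulVec_mul,
          inv_fix (show mat (M.U ^ j) *ᵥ M.a 0 = M.a j by rw [zpow_act, zero_add]),
          M.gEl_a0 hr hg, mulVec_add, mulVec_smul, zpow_act, zpow_act, zero_add, add_comm 1 j]
      set θ := Cfsg.hermForm (2 * r + 1) F q (M.a (i - j)) (M.a 0 + (g * κ) • M.a r) with hθ
      have Gi : mat G *ᵥ M.a i = M.a i + θ • M.a (j + 1) := by
        rw [hGdef, mulVec_mul, mulVec_mul,
          inv_fix (show mat (M.U ^ j) *ᵥ M.a (i - j) = M.a i by rw [zpow_act, sub_add_cancel]),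
          M.gEl_eq hr hg, C.rt_mulVec (M.gEl_orth hr hg), ← hθ,
          M.orth (i := i - j) (j := 1) (by omega) (by omega), mul_zero, zero_smul, sub_zero,
          one_mul, mulVec_add, mulVec_smul, zpow_act, zpow_act, sub_add_cancel, add_comm 1 j]
      have oij : Conj.Orth2 (q := q) (M.a i) (M.a j) := M.orth2 hr (by omega) (by omega)
      have oiz : Conj.Orth2 (q := q) (M.a i) (M.a (j + 1)) := M.orth2 hr (by omega) (by omega)
      have ojz : Conj.Orth2 (q := q) (M.a j) (M.a (j + 1)) := M.orth2 hr (by omega) (by omega)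
      have ozz : Conj.Orth2 (q := q) (M.a (j + 1)) (M.a (j + 1)) := M.orth2 hr (by omega) (by omega)
      have hA := ih (by omega) i (c / ρ)
      rw [← hj] at hA
      have h3 := mul_mem (mul_mem hG hA) (inv_mem hG)
      have ozy := C.orth2_add_right (C.orth2_symm ojz) (C.orth2_smul_right ρ ozz)
        (by rw [C.smul_right, ojz.hxy, mul_zero])
      rw [C.conj_rt _ oij, Gi, Gj,
        C.rt_add_left (C.orth2_add_right oij (C.orth2_smul_right ρ oiz)
          (by rw [C.smul_right, ojz.hxy, mul_zero]))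
          (C.orth2_smul_left θ ozy) (by rw [C.smul_right, oiz.hxy, mul_zero]),
        C.rt_add_right oij (C.orth2_smul_right ρ oiz) (by rw [C.smul_right, ojz.hxy, mul_zero]),
        C.rt_smul_right oiz, C.rt_smul_left ozy,
        C.rt_add_right (C.orth2_symm ojz) (C.orth2_smul_right ρ ozz)
          (by rw [C.smul_right, ojz.hxy, mul_zero]),
        C.rt_smul_right ozz, C.rt_self (M.iso hr _), C.rt_swap ojz, div_mul_cancel₀ c hρ] at h3
      rw [K.mul_mem_cancel_right (mul_mem (hs j _) (ht _ _ (C.trace_zero_sub_conj _)))] at h3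
      exact (K.mul_mem_cancel_left hA).1 h3
  have hpair' : ∀ i j : ℤ, i - r < j → j < i + r → ∀ c, C.rt (M.a i) (M.a j) c ∈ K := by
    intro i j h1 h2 c
    rcases le_total i j with h | h
    · rw [show j = i + ((j - i).toNat : ℤ) by omega]
      exact hpair _ (by omega) i c
    · rw [C.rt_swap (M.orth2 hr (by omega) (by omega)), show i = j + ((i - j).toNat : ℤ) by omega]
      exact hpair _ (by omega) j _
  let L : ℤ → Submodule F (Fin (2 * r + 1) → F) := fun s =>
    Submodule.span F (Set.range fun k : Fin r => M.a (s + k.val))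
  have hspan := fun s : ℤ => C.span_subset_Wset (K := K) (fun k : Fin r => M.a (s + k.val))
    (fun i j => M.orth (by omega) (by omega))
    (fun i j c => hpair' _ _ (by omega) (by omega) c) (fun i c hc => ht _ c hc)
  have hW : ∀ s, ∀ x ∈ L s, x ∈ C.Wset K := fun s => (hspan s).1
  have hiso : ∀ s, ∀ x ∈ L s, ∀ y ∈ L s, Cfsg.hermForm (2 * r + 1) F q x y = 0 :=
    fun s => (hspan s).2
  have hmemL : ∀ s (i : ℕ), i < r → M.a (s + i) ∈ L s := fun s i hi =>
    Submodule.subset_span ⟨⟨i, hi⟩, rfl⟩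
  -- vectors of `L 0 + L r`
  have h2 : ∀ x ∈ L 0, ∀ y ∈ L r, Cfsg.hermForm (2 * r + 1) F q (x + y) (x + y) = 0 →
      x + y ∈ C.Wset K := by
    intro x hx y hy hxy
    by_cases hy0 : y = 0
    · rw [hy0, add_zero]; exact hW 0 x hx
    refine C.Wset_step (hW 0) (hiso 0) hg hg0 ((L 0).neg_mem hx) ?_ ?_
      (by rw [show x + y + -x = y by abel]; exact hW r y hy)
    · have e := hxy
      rw [C.add_left, C.add_right, C.add_right, hiso 0 x hx x hx, hiso r y hy y hy, zero_add,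
        add_zero] at e
      rw [C.neg_right, C.add_left, hiso 0 x hx x hx, zero_add, map_neg, neg_neg, ← C.flip y x]
      linear_combination -e
    · classical
      obtain ⟨co, hco⟩ := (Submodule.mem_span_range_iff_exists_fun F).1 hy
      have hs' : (Finset.univ.filter fun k : Fin r => co k ≠ 0).Nonempty := by
        by_contra hemp
        rw [Finset.not_nonempty_iff_eq_empty, Finset.filter_eq_empty_iff] at hemp
        apply hy0
        rw [← hco]
        exact Finset.sum_eq_zero fun k _ => by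
          rw [not_not.1 (hemp (Finset.mem_univ k)), zero_smul]
      set k0 := (Finset.univ.filter fun k : Fin r => co k ≠ 0).max' hs' with hk0
      refine ⟨M.a (0 + (k0.val : ℤ)), hmemL 0 _ k0.2, ?_⟩
      rw [C.add_left, hiso 0 x hx _ (hmemL 0 _ k0.2), zero_add, ← hco]
      rw [show (∑ i, co i • M.a ((r : ℤ) + i.val)) = co k0 • M.a ((r : ℤ) + k0.val) +
          ∑ i ∈ Finset.univ.erase k0, co i • M.a ((r : ℤ) + i.val) from
        (Finset.add_sum_erase _ _ (Finset.mem_univ k0)).symm, C.add_left, C.smul_left]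
      have hrest : Cfsg.hermForm (2 * r + 1) F q
          (∑ i ∈ Finset.univ.erase k0, co i • M.a ((r : ℤ) + i.val)) (M.a (0 + (k0.val : ℤ))) = 0 := by
        have hsum := map_sum (AddMonoidHom.mk'
          (fun u : Fin (2 * r + 1) → F =>
            Cfsg.hermForm (2 * r + 1) F q u (M.a (0 + (k0.val : ℤ))))
          (fun a b => C.add_left a b _))
          (fun i : Fin r => co i • M.a ((r : ℤ) + i.val)) (Finset.univ.erase k0)
        simp only [AddMonoidHom.mk'_apply] at hsum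
        rw [hsum]
        refine Finset.sum_eq_zero fun i hi => ?_
        rw [C.smul_left]
        by_cases hci : co i = 0
        · rw [hci, zero_mul]
        have hle : i ≤ k0 := Finset.le_max' _ i (Finset.mem_filter.2 ⟨Finset.mem_univ i, hci⟩)
        have hlt : i.val < k0.val :=
          lt_of_le_of_ne hle (fun e => Finset.ne_of_mem_erase hi (Fin.ext e))
        rw [M.orth (by omega) (by omega), mul_zero]
      rw [hrest, add_zero, zero_add, add_comm (r : ℤ), M.form_bot]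
      exact mul_ne_zero (Finset.mem_filter.1 (Finset.max'_mem _ hs')).2 hσκ
  -- some shift of `v` is not orthogonal to `a_{r+1}`
  by_cases hv0 : v = 0
  · rw [hv0]
    exact ⟨C.zero_left _, fun c _ => by rw [C.tm_zero_vec]; exact K.one_mem⟩
  obtain ⟨j, hj⟩ : ∃ j : ℤ, Cfsg.hermForm (2 * r + 1) F q v (M.a j) ≠ 0 := by
    by_contra hne
    push Not at hne
    apply hv0
    have hall : ∀ w, Cfsg.hermForm (2 * r + 1) F q v w = 0 := by
      intro w
      have hw : w ∈ Submodule.span F (Set.range fun k : Fin (2 * r + 1) => M.a (k.val : ℤ)) := by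
        rw [M.spans]; exact Submodule.mem_top
      induction hw using Submodule.span_induction with
      | mem x hx => obtain ⟨k, rfl⟩ := hx; exact hne _
      | zero => exact C.zero_right v
      | add x y _ _ h1 h2 => rw [C.add_right, h1, h2, add_zero]
      | smul c x _ h => rw [C.smul_right, h, mul_zero]
    funext i
    simpa [C.form_eq, Pi.single_apply] using hall (Pi.single i 1)
  suffices hmain : ∀ w, Cfsg.hermForm (2 * r + 1) F q w w = 0 →
      Cfsg.hermForm (2 * r + 1) F q w (M.a ((r : ℤ) + 1)) ≠ 0 → w ∈ C.Wset K by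
    set s : ℤ := (r : ℤ) + 1 - j with hs'
    obtain ⟨-, hw2⟩ := hmain (mat (M.U ^ s) *ᵥ v) (by rw [form_mulVec, hv]) (by
      rw [show M.a ((r : ℤ) + 1) = mat (M.U ^ s) *ᵥ M.a j by rw [zpow_act, hs']; ring_nf,
        form_mulVec]
      exact hj)
    refine ⟨hv, fun c hc => ?_⟩
    have h3 := mul_mem (mul_mem (inv_mem (zpow_mem hU s)) (hw2 c hc)) (zpow_mem hU s)
    have e : (M.U ^ s)⁻¹ * C.tm (mat (M.U ^ s) *ᵥ v) c * M.U ^ s = C.tm v c := by
      rw [← C.conj_tm _ hv hc]; group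
    rwa [e] at h3
  intro w hw hw1
  obtain ⟨co, hco⟩ := (Submodule.mem_span_range_iff_exists_fun F).1
    (show w ∈ Submodule.span F (Set.range fun k : Fin (2 * r + 1) => M.a (k.val : ℤ)) by
      rw [M.spans]; exact Submodule.mem_top)
  set cl := co (Fin.last (2 * r)) with hcl
  set dd := C.σ (C.σ cl * Cfsg.hermForm (2 * r + 1) F q w (M.a ((r : ℤ) + 1 + ((r - 1 : ℕ) : ℤ))) /
    Cfsg.hermForm (2 * r + 1) F q w (M.a ((r : ℤ) + 1))) with hdd
  set x := (-cl) • M.a ((r : ℤ) + 1 + ((r - 1 : ℕ) : ℤ)) + dd • M.a ((r : ℤ) + 1) with hxdef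
  have hm1 : M.a ((r : ℤ) + 1) ∈ L ((r : ℤ) + 1) := by simpa using hmemL ((r : ℤ) + 1) 0 (by omega)
  have hxL : x ∈ L ((r : ℤ) + 1) := (L _).add_mem ((L _).smul_mem _ (hmemL _ _ (by omega)))
    ((L _).smul_mem _ hm1)
  have hwx : Cfsg.hermForm (2 * r + 1) F q w x = 0 := by
    rw [hxdef, C.add_right, C.smul_right, C.smul_right, hdd, C.hσ2, div_mul_cancel₀ _ hw1, map_neg]
    ring
  refine C.Wset_step (hW _) (hiso _) hg hg0 hxL (by rw [hwx, map_zero, neg_zero])
    ⟨_, hm1, hw1⟩ ?_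
  obtain ⟨u1, hu1, u2, hu2, hu⟩ : ∃ u1 ∈ L 0, ∃ u2 ∈ L r, u1 + u2 = w + x := by
    rw [← Submodule.mem_sup]
    have e : w + x = (∑ k : Fin (2 * r), co k.castSucc • M.a (k.val : ℤ)) +
        dd • M.a ((r : ℤ) + 1) := by
      rw [← hco, Fin.sum_univ_castSucc, hxdef]
      simp only [Fin.val_castSucc, Fin.val_last, ← hcl,
        show (r : ℤ) + 1 + ((r - 1 : ℕ) : ℤ) = ((2 * r : ℕ) : ℤ) by omega]
      module
    rw [e]
    refine Submodule.add_mem _ (Submodule.sum_mem _ fun k _ => Submodule.smul_mem _ _ ?_) ?_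
    · by_cases hk : k.val < r
      · exact Submodule.mem_sup_left (by simpa using hmemL 0 k.val hk)
      · refine Submodule.mem_sup_right ?_
        have := hmemL (r : ℤ) (k.val - r) (by omega)
        rwa [show (r : ℤ) + ((k.val - r : ℕ) : ℤ) = (k.val : ℤ) by omega] at this
    · exact Submodule.mem_sup_right (Submodule.smul_mem _ _ (by simpa using hmemL (r : ℤ) 1 (by omega)))
  rw [← hu]
  refine h2 u1 hu1 u2 hu2 ?_
  rw [hu, C.add_left w x, C.add_right w w x, C.add_right x w x, hw, hwx, C.flip_zero hwx, hiso _ x hxL x hxL]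
  simp

end Model

end CfsgLib.RegUnipU
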