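import Cfsg.Agent.Lib.RegUnipU.Three
import Cfsg.Agent.Lib.ClassicalGroups.UnitaryGen

/-!
`SU_n(q)`, `n = 2r+1 ≥ 5`, is generated by three conjugate regular unipotent elements.
-/

set_option autoImplicit false

namespace CfsgLib.RegUnipU

open Matrix

variable {F : Type*} [Field F] [Fintype F] {q : ℕ}

/-- The conjugation of a field with `q²` elements. -/
theorem exists_conjugation (hF : Fintype.card F = q ^ 2) :
    ∃ C : Conj F q, C.σ ≠ RingHom.id F := by
  obtain ⟨τ, hτ, hne, hτ2⟩ := CfsgLib.UnitaryEmbed.exists_conj hF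
  exact ⟨⟨τ, hτ, hτ2⟩, hne⟩

/-- A subgroup with all transvections is everything. -/
theorem eq_top_of_tm (hF : Fintype.card F = q ^ 2) (C : Conj F q) {n : ℕ} (hn : 3 ≤ n)
    (h32 : ¬(n = 3 ∧ q = 2)) (H : Subgroup ↥(Cfsg.SU n F q))
    (h : ∀ v c, Cfsg.hermForm n F q v v = 0 → C.σ c = -c → C.tm v c ∈ H) : H = ⊤ := by
  rw [eq_top_iff, ← CfsgLib.ClassicalGroups.closure_suTvSet hF hn h32, Subgroup.closure_le]
  rintro A ⟨v, c, hv, hA⟩
  have hA' : mat A = C.rankOne v v c := by rw [mat, hA, C.unitaryTransvection_eq]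
  by_cases hv0 : v = 0
  · have : A = 1 := su_ext fun x => by
      rw [hA', C.rankOne_mulVec, hv0, smul_zero, add_zero, one_act]
    rw [this]
    exact H.one_mem
  obtain ⟨i, hi⟩ : ∃ i, v i ≠ 0 := Function.ne_iff.1 hv0
  obtain ⟨y, hy⟩ : ∃ y, Cfsg.hermForm n F q y v = 1 := by
    refine ⟨(C.σ (v i))⁻¹ • Pi.single i 1, ?_⟩
    rw [C.smul_left, C.form_eq]
    simp [Pi.single_apply, (map_ne_zero C.σ).2 hi]
  have hc : C.σ c = -c := by
    have e := form_mulVec A y y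
    rw [hA', C.rankOne_mulVec, C.add_left, C.add_right, C.add_right, C.smul_left, C.smul_right,
      C.smul_left, C.smul_right, C.flip y v, hy, hv, map_mul, map_one] at e
    linear_combination e
  have : A = C.tm v c := su_ext fun x => by
    rw [hA', C.rankOne_mulVec, C.tm_mulVec hv hc]
  rw [this]
  exact h v c hv hc

/-- `SU_{2r+1}(q)`, `r ≥ 2`. -/
theorem three_conjugates_large (hF : Fintype.card F = q ^ 2) {r : ℕ} (hr : 2 ≤ r) :
    ∃ u g h : ↥(Cfsg.SU (2 * r + 1) F q),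
      (IsNilpotent (mat u - 1) ∧ (mat u - 1) ^ (2 * r) ≠ 0) ∧
        Subgroup.closure {u, g * u * g⁻¹, h * u * h⁻¹} = ⊤ := by
  obtain ⟨C, hne⟩ := exists_conjugation hF
  obtain ⟨κ, γ, ε, w, P⟩ := exists_params hF C hne
  obtain ⟨M⟩ := exists_model hF C hne (r := r) (by omega) κ P.htr
  have h32 : ¬(2 * r + 1 = 3 ∧ q = 2) := by omega
  have hp := CfsgLib.ClassicalGroups.SU_perfect hF (n := 2 * r + 1) (by omega) h32
  have hgen := eq_top_of_tm hF C (n := 2 * r + 1) (by omega) h32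
  obtain ⟨g, h, hgh⟩ : ∃ g h : ↥(Cfsg.SU (2 * r + 1) F q),
      Subgroup.closure {M.U, g * M.U * g⁻¹, h * M.U * h⁻¹} = ⊤ := by
    rcases (show 3 ≤ r ∨ r = 2 by omega) with h3 | h2
    · exact M.three_large h3 P hp hgen
    · subst h2
      exact M.three_two P hp hgen
  exact ⟨M.U, g, h, ⟨M.nilp, M.regular⟩, hgh⟩

end CfsgLib.RegUnipU
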