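import Cfsg.Agent.Lib.RegUnip.TwoGen
import Cfsg.Agent.Lib.RegUnipU.Elem
import Cfsg.Agent.Lib.UnitaryEmbed.HermSpace

/-!
A regular unipotent element of `SU_{2r+1}(q)` with an orbit `a_j` whose Gram matrix is `φ(j - i)`,
`φ m = 0` for `|m| < r` and `φ r = κ`, for any `κ` of non-zero trace.
-/

set_option autoImplicit false

namespace CfsgLib.RegUnipU

open Matrix CfsgLib.RegUnip CfsgLib.RegUnip.TwoGen

/-- The data of a regular unipotent element of `SU_{2r+1}(q)` with its orbit. -/
structure Model {F : Type*} [Field F] {q : ℕ} (C : Conj F q) (r : ℕ) (κ : F) where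
  U : ↥(Cfsg.SU (2 * r + 1) F q)
  a : ℤ → Fin (2 * r + 1) → F
  φ : ℤ → F
  act : ∀ j, mat U *ᵥ a j = a (j + 1)
  form : ∀ i j, Cfsg.hermForm (2 * r + 1) F q (a i) (a j) = φ (j - i)
  φ_small : ∀ m : ℤ, -(r : ℤ) < m → m < r → φ m = 0
  φ_top : φ r = κ
  φ_bot : φ (-(r : ℤ)) = C.σ κ
  spans : Submodule.span F (Set.range fun k : Fin (2 * r + 1) => a (k.val : ℤ)) = ⊤
  nilp : IsNilpotent (mat U - 1)
  regular : (mat U - 1) ^ (2 * r) ≠ 0

variable {F : Type*} [Field F] {q : ℕ}

theorem exists_recurrence {N : ℕ} [NeZero N] (f : Fin N → F) (j : ℤ) :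
    (∑ i ∈ Finset.range (N + 1), ((-1 : F) ^ (i + N) * (N.choose i : F)) * phi f (j + i)) = 0 := by
  have e := congrArg (fun A : Matrix (Fin N) (Fin N) F => f ⬝ᵥ (A *ᵥ ai N F j))
    (shiftMat_pow_eq_zero (F := F) N)
  simp only [shiftMat_pow_sum, Matrix.sum_mulVec, zero_mulVec, smul_mulVec, up_mulVec_ai,
    add_comm _ j, dotProduct_sum, dotProduct_smul, dotProduct_zero, smul_eq_mul] at e
  exact e

theorem zero_of_window {N : ℕ} (hN : 0 < N) (D : ℤ → F) (lo : ℤ)
    (hw : ∀ m, lo ≤ m → m < lo + N → D m = 0)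
    (hrec : ∀ j, (∑ i ∈ Finset.range (N + 1),
      ((-1 : F) ^ (i + N) * (N.choose i : F)) * D (j + i)) = 0) : ∀ m, D m = 0 := by
  suffices h : ∀ k : ℕ, ∀ m, lo - k ≤ m → m < lo + N + k → D m = 0 by
    intro m
    exact h ((m - lo).natAbs + 1) m (by omega) (by omega)
  intro k
  induction k with
  | zero => intro m h1 h2; exact hw m (by omega) (by omega)
  | succ k ih =>
    intro m h1 h2
    by_cases hm1 : m < lo - k
    · have hm : m = lo - k - 1 := by omega
      have h := hrec m
      rw [Finset.sum_range_succ', Finset.sum_eq_zero (fun i hi => by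
        rw [Finset.mem_range] at hi
        rw [ih _ (by omega) (by omega), mul_zero]), zero_add] at h
      simpa using h
    · by_cases hm2 : lo + N + k ≤ m
      · have h := hrec (m - N)
        rw [Finset.sum_range_succ, Finset.sum_eq_zero (fun i hi => by
          rw [Finset.mem_range] at hi
          rw [ih _ (by omega) (by omega), mul_zero]), zero_add] at h
        simpa [Even.neg_one_pow (⟨N, rfl⟩ : Even (N + N)), ← two_mul] using h
      · exact ih m (by omega) (by omega)

theorem exists_model [Fintype F] (hF : Fintype.card F = q ^ 2) (C : Conj F q)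
    (hne : C.σ ≠ RingHom.id F) {r : ℕ} (hr : 0 < r) (κ : F) (hκ : κ + C.σ κ ≠ 0) :
    Nonempty (Model C r κ) := by
  classical
  set N := 2 * r + 1 with hN
  obtain ⟨f, hf⟩ := exists_functional (F := F) (n := N) (-(r : ℤ))
    (fun k => if k.val = 0 then κ else if k.val = 2 * r then C.σ κ else 0)
  have hsm : ∀ m : ℤ, -(r : ℤ) < m → m < r → phi f m = 0 := by
    intro m h1 h2
    have := hf ⟨(m + r).toNat, by omega⟩
    rw [if_neg (by simp only; omega), if_neg (by simp only; omega),
      show -(r : ℤ) + ((m + r).toNat : ℕ) = m by omega] at this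
    exact this
  have hbot : phi f (-(r : ℤ)) = κ := by
    have := hf ⟨0, by omega⟩
    simpa using this
  have htop : phi f r = C.σ κ := by
    have := hf ⟨2 * r, by omega⟩
    rw [if_neg (by simp only; omega), if_pos rfl,
      show -(r : ℤ) + ((2 * r : ℕ) : ℤ) = r by omega] at this
    exact this
  have hsym : ∀ m, C.σ (phi f m) = phi f (-m) := by
    suffices h : ∀ m, C.σ (phi f m) - phi f (-m) = 0 from fun m => sub_eq_zero.1 (h m)
    refine zero_of_window (N := N) (by omega) _ (-(r : ℤ)) (fun m h1 h2 => ?_) (fun j => ?_)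
    · rcases eq_or_ne m (-(r : ℤ)) with rfl | hne1
      · rw [hbot, neg_neg, htop, sub_self]
      rcases eq_or_ne m r with rfl | hne2
      · rw [htop, hbot, C.hσ2, sub_self]
      rw [hsm m (by omega) (by omega), hsm (-m) (by omega) (by omega), map_zero, sub_zero]
    · simp only [mul_sub, Finset.sum_sub_distrib]
      have h1 : (∑ i ∈ Finset.range (N + 1),
          ((-1 : F) ^ (i + N) * (N.choose i : F)) * C.σ (phi f (j + i))) = 0 := by
        simpa [map_sum] using congrArg C.σ (exists_recurrence f j)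
      rw [h1, zero_sub, neg_eq_zero, ← Finset.sum_range_reflect]
      rw [← neg_eq_zero, ← Finset.sum_neg_distrib, ← exists_recurrence f (-j - N)]
      refine Finset.sum_congr rfl fun i hi => ?_
      rw [Finset.mem_range] at hi
      have hc : N.choose (N + 1 - 1 - i) = N.choose i := by
        rw [Nat.add_sub_cancel, Nat.choose_symm (by omega)]
      have hs : (-1 : F) ^ (N + 1 - 1 - i + N) = -(-1 : F) ^ (i + N) := by
        rw [← neg_one_mul ((-1 : F) ^ (i + N)), ← pow_succ', neg_one_pow_eq_pow_mod_two,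
          neg_one_pow_eq_pow_mod_two (n := i + N + 1)]
        congr 1
        omega
      rw [hc, hs, show -(j + ((N + 1 - 1 - i : ℕ) : ℤ)) = -j - N + i by omega]
      ring
  have hf0 : f ⟨0, by omega⟩ ≠ 0 := by
    have hd := diff_const f (-(r : ℤ))
    rw [show N - 1 = 2 * r by omega, show Finset.range N = Finset.range (2 * r + 1) from rfl,
      Finset.sum_range_succ, Finset.sum_eq_single 0
      (fun i hi h0 => by
        rw [Finset.mem_range] at hi
        rw [hsm _ (by omega) (by omega), mul_zero])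
      (fun h0 => absurd (Finset.mem_range.2 (by omega)) h0),
      show -(r : ℤ) + ((2 * r : ℕ) : ℤ) = r by omega] at hd
    simp only [Nat.cast_zero, add_zero, Nat.choose_zero_right, Nat.choose_self, Nat.cast_one,
      mul_one, zero_add, hbot, htop] at hd
    rw [Even.neg_one_pow (even_two_mul r), Even.neg_one_pow ⟨2 * r, rfl⟩, one_mul, one_mul] at hd
    intro h0
    apply hκ
    rw [hd, dotProduct]
    refine Finset.sum_eq_zero fun i _ => ?_
    rcases eq_or_ne i ⟨0, by omega⟩ with rfl | hi
    · rw [h0, zero_mul]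
    · rw [ai, up_zero, one_mulVec, mulVec_single_one, Matrix.col_apply, shiftMat_pow_apply,
        if_neg, mul_zero]
      have hiv : i.val ≠ 0 := fun e => hi (Fin.ext e)
      simp only
      omega
  have hind : LinearIndependent F fun k : Fin N => ai N F (k.val : ℤ) := by
    rw [Fintype.linearIndependent_iff]
    intro c hc i
    obtain ⟨g, hg⟩ := exists_functional (F := F) (n := N) 0 (Pi.single i 1)
    have := congrArg (fun v => g ⬝ᵥ v) hc
    simp only [dotProduct_sum, dotProduct_smul, dotProduct_zero, smul_eq_mul] at this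
    rw [Finset.sum_eq_single i] at this
    · have hgi := hg i
      rw [zero_add, phi, Pi.single_eq_same] at hgi
      rwa [hgi, mul_one] at this
    · intro k _ hk
      have hgk := hg k
      rw [zero_add, phi, Pi.single_eq_of_ne hk] at hgk
      rw [hgk, mul_zero]
    · simp
  let b := basisOfLinearIndependentOfCardEqFinrank hind (by simp)
  have hb : ∀ k : Fin N, b k = ai N F (k.val : ℤ) := fun k => by simp [b]
  let B : (Fin N → F) →ₛₗ[C.σ] (Fin N → F) →ₗ[F] F :=
    LinearMap.mk₂'ₛₗ C.σ (RingHom.id F)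
      (fun y x => ∑ k : Fin N, C.σ (b.repr y k) * (fi f (k.val : ℤ) ⬝ᵥ x))
      (fun y y' x => by simp [add_mul, Finset.sum_add_distrib])
      (fun c y x => by simp [Finset.mul_sum, mul_assoc])
      (fun y x x' => by simp [dotProduct_add, mul_add, Finset.sum_add_distrib])
      (fun c y x => by simp [dotProduct_smul, Finset.mul_sum, mul_left_comm])
  have hBk : ∀ (k : Fin N) x, B (ai N F (k.val : ℤ)) x = fi f (k.val : ℤ) ⬝ᵥ x := by
    intro k x
    show (∑ l : Fin N, C.σ (b.repr _ l) * _) = _
    rw [← hb, b.repr_self, Finset.sum_eq_single k]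
    · simp
    · intro l _ hl
      simp [Finsupp.single_eq_of_ne hl]
    · simp
  have hS : ∀ x y, C.σ (B x y) = B y x := by
    intro x y
    rw [← b.sum_repr x, ← b.sum_repr y]
    simp only [map_sum, map_smulₛₗ, LinearMap.sum_apply, LinearMap.smul_apply, smul_eq_mul,
      RingHom.id_apply, map_mul, hb, hBk, pair, C.hσ2, hsym, Finset.mul_sum]
    rw [Finset.sum_comm]
    refine Finset.sum_congr rfl fun i _ => Finset.sum_congr rfl fun k _ => ?_
    rw [neg_sub]
    ring
  have hBj : ∀ (j : ℤ) x, B (ai N F j) x = fi f j ⬝ᵥ x := by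
    intro j x
    rw [← b.sum_repr x, map_sum, dotProduct_sum]
    refine Finset.sum_congr rfl fun k _ => ?_
    rw [map_smulₛₗ, dotProduct_smul, RingHom.id_apply, hb, ← hS, hBk, pair, hsym, neg_sub, pair]
  have hsep : B.SeparatingLeft := by
    intro y hy
    have h0 : ∀ m : ℤ, f ⬝ᵥ (up N F m *ᵥ y) = 0 := by
      intro m
      have := congrArg C.σ (hy (ai N F (-m)))
      rw [hS, map_zero, hBj, fi, neg_neg, ← dotProduct_mulVec] at this
      exact this
    by_contra hne
    obtain ⟨t, ht, htop'⟩ : ∃ t : Fin N, y t ≠ 0 ∧ ∀ i : Fin N, t < i → y i = 0 := by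
      let s := Finset.univ.filter fun i : Fin N => y i ≠ 0
      have hs : s.Nonempty := by
        by_contra he
        rw [Finset.not_nonempty_iff_eq_empty, Finset.filter_eq_empty_iff] at he
        exact hne (funext fun i => by simpa using he (Finset.mem_univ i))
      refine ⟨s.max' hs, (Finset.mem_filter.1 (s.max'_mem hs)).2, fun i hi => ?_⟩
      by_contra hyi
      exact absurd (s.le_max' i (Finset.mem_filter.2 ⟨Finset.mem_univ i, hyi⟩)) (not_le.2 hi)
    have hJ : f ⬝ᵥ (shiftMat N F ^ t.val *ᵥ y) = 0 := by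
      rw [shiftMat_pow_sum, Matrix.sum_mulVec, dotProduct_sum]
      refine Finset.sum_eq_zero fun i _ => ?_
      rw [smul_mulVec, dotProduct_smul, h0, smul_zero]
    rw [dotProduct, Finset.sum_eq_single (⟨0, by omega⟩ : Fin N)] at hJ
    · rw [mulVec, dotProduct, Finset.sum_eq_single t] at hJ
      · rw [shiftMat_pow_apply, if_pos (by simp), one_mul] at hJ
        exact mul_ne_zero hf0 ht hJ
      · intro l _ hl
        rw [shiftMat_pow_apply, if_neg, zero_mul]
        intro e
        exact hl (Fin.ext (by simpa using e.symm))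
      · simp
    · intro i _ hi
      rw [mulVec, dotProduct, Finset.sum_eq_zero, mul_zero]
      intro l _
      rw [shiftMat_pow_apply]
      split_ifs with e
      · rw [one_mul]
        refine htop' l ?_
        have hiv : i.val ≠ 0 := fun e' => hi (Fin.ext e')
        show t.val < l.val
        omega
      · rw [zero_mul]
    · simp
  obtain ⟨e, he⟩ := CfsgLib.UnitaryEmbed.exists_std_equiv hF C.σ C.hσ hne C.hσ2 B hS hsep
    (show Module.finrank F (Fin N → F) = 2 * r + 1 by simp [hN])
  let L : (Fin N → F) →ₗ[F] (Fin N → F) :=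
    e.symm.toLinearMap ∘ₗ Matrix.toLin' (up N F 1) ∘ₗ e.toLinearMap
  let Um : Matrix (Fin N) (Fin N) F := LinearMap.toMatrix' L
  have hUm : ∀ x, Um *ᵥ x = e.symm (up N F 1 *ᵥ e x) := by
    intro x
    simp only [Um, LinearMap.toMatrix'_mulVec]
    rfl
  have hdet : Um.det = 1 := by
    rw [LinearMap.det_toMatrix', show L = e.symm.toLinearMap ∘ₗ Matrix.toLin' (up N F 1) ∘ₗ
      e.symm.symm.toLinearMap from rfl, LinearMap.det_conj, LinearMap.det_toLin', up]
    exact (regUnip N F ^ (1 : ℤ)).2
  have hmem : (⟨Um, hdet⟩ : Matrix.SpecialLinearGroup (Fin N) F) ∈ Cfsg.SU N F q := by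
    intro u v
    show Cfsg.hermForm N F q (Um *ᵥ u) (Um *ᵥ v) = _
    rw [← he, ← he, hUm, hUm, e.apply_symm_apply, e.apply_symm_apply, ← b.sum_repr (e v)]
    simp only [mulVec_sum, map_sum, map_smulₛₗ, mulVec_smul, LinearMap.sum_apply,
      LinearMap.smul_apply, hb, up_mulVec_ai, hBk, hBj]
    refine Finset.sum_congr rfl fun k _ => ?_
    congr 1
    rw [add_comm, dotProduct_mulVec]
    congr 1
    rw [fi, fi, vecMul_vecMul, ← up_add, show -((k.val : ℤ) + 1) + 1 = -(k.val : ℤ) by ring]
  refine ⟨{ U := ⟨_, hmem⟩, a := fun j => e.symm (ai N F j), φ := fun m => phi f (-m)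
            act := fun j => ?_, form := fun i j => ?_
            φ_small := fun m h1 h2 => hsm _ (by omega) (by omega)
            φ_top := hbot, φ_bot := by simpa using htop
            spans := ?_, nilp := ?_, regular := ?_ }⟩
  · show Um *ᵥ e.symm (ai N F j) = _
    rw [hUm, e.apply_symm_apply, up_mulVec_ai, add_comm j 1]
  · rw [← he, e.apply_symm_apply, e.apply_symm_apply, hBj, pair, neg_sub]
  · rw [show (fun k : Fin (2 * r + 1) => e.symm (ai N F (k.val : ℤ))) = ⇑e.symm ∘ ⇑b from
      funext fun k => by simp [hb, N], Set.range_comp, ← LinearEquiv.coe_coe,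
      Submodule.span_image, b.span_eq, Submodule.map_top, LinearEquiv.range]
  all_goals
    have key : ∀ (k : ℕ) (x : Fin N → F),
        (Um - 1) ^ k *ᵥ e.symm x = e.symm (shiftMat N F ^ k *ᵥ x) := by
      intro k
      induction k with
      | zero => simp
      | succ k ih =>
        intro x
        rw [pow_succ, ← mulVec_mulVec, sub_mulVec, hUm, one_mulVec, e.apply_symm_apply, ← map_sub,
          ih, up, zpow_one, regUnip_val, add_mulVec, one_mulVec, add_sub_cancel_left, pow_succ,
          ← mulVec_mulVec]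
  · refine ⟨N, Matrix.ext_of_mulVec_single fun j => ?_⟩
    show (Um - 1) ^ N *ᵥ Pi.single j 1 = _
    rw [← e.symm_apply_apply (Pi.single j 1), key, shiftMat_pow_eq_zero, zero_mulVec, zero_mulVec,
      map_zero]
  · intro h0
    apply shiftMat_pow_pred_ne_zero (F := F) N (by omega)
    refine Matrix.ext_of_mulVec_single fun j => e.symm.injective ?_
    rw [← key, zero_mulVec, map_zero, show N - 1 = 2 * r by omega]
    change (Um - 1) ^ (2 * r) *ᵥ _ = 0
    rw [show (Um - 1) ^ (2 * r) = 0 from h0, zero_mulVec]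

end CfsgLib.RegUnipU
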