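import Cfsg.Agent.Lib.RegUnipU.Gens
import Cfsg.Agent.Lib.ClassicalGroups.HermBasic

/-!
The choice of scalars and the two generation steps `Λ` (transvections) and `Σ` (short root elements).
-/

set_option autoImplicit false

namespace CfsgLib.RegUnipU

open Matrix

variable {F : Type*} [Field F] {q r : ℕ} {κ : F} {C : Conj F q}

/-- An element of the fixed field whose powers are all its non-zero elements. -/
theorem exists_fixed_generator [Fintype F] (hF : Fintype.card F = q ^ 2) (C : Conj F q) :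
    ∃ w : F, C.σ w = w ∧ w ≠ 0 ∧ ∀ x, C.σ x = x → x ≠ 0 → ∃ k : ℕ, w ^ k = x := by
  obtain ⟨g, hg⟩ := IsCyclic.exists_generator (α := Fˣ)
  refine ⟨(g : F) * C.σ g, C.norm_fixed _, mul_ne_zero g.ne_zero ((map_ne_zero C.σ).2 g.ne_zero),
    fun x hx hx0 => ?_⟩
  obtain ⟨y, hy0, hy⟩ := CfsgLib.ClassicalGroups.exists_norm_eq hF (c := x) (by rw [← C.hσ, hx]) hx0
  obtain ⟨k, hk⟩ := (Submonoid.mem_powers_iff _ _).1
    (mem_powers_iff_mem_zpowers.2 (hg (Units.mk0 y hy0)))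
  refine ⟨k, ?_⟩
  have hk' : (g : F) ^ k = y := by simpa using congrArg Units.val hk
  rw [mul_pow, ← map_pow, hk', C.hσ, ← pow_succ', hy]

/-- An additive subgroup containing `1` and stable under `w²` contains the fixed field. -/
theorem fixed_subset (C : Conj F q) [Fintype F] {A : AddSubgroup F} {w : F}
    (hw : ∀ x, C.σ x = x → x ≠ 0 → ∃ k : ℕ, w ^ k = x) (h1 : (1 : F) ∈ A)
    (hst : ∀ c ∈ A, w * w * c ∈ A) : ∀ z, C.σ z = z → z ∈ A := by
  have hpow : ∀ k : ℕ, w ^ k * w ^ k ∈ A := by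
    intro k
    induction k with
    | zero => simpa using h1
    | succ k ih =>
      rw [show w ^ (k + 1) * w ^ (k + 1) = w * w * (w ^ k * w ^ k) by ring]
      exact hst _ ih
  have hsq : ∀ x, C.σ x = x → x * x ∈ A := by
    intro x hx
    rcases eq_or_ne x 0 with rfl | hx0
    · rw [mul_zero]; exact A.zero_mem
    obtain ⟨k, hk⟩ := hw x hx hx0
    rw [← hk]
    exact hpow k
  intro z hz
  by_cases h2 : (2 : F) = 0
  · have : CharP F 2 := CharTwo.of_one_ne_zero_of_two_eq_zero one_ne_zero h2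
    obtain ⟨s, hs⟩ := FiniteField.isSquare_of_char_two (ringChar.eq F 2 ▸ rfl : ringChar F = 2) z
    have hs' : C.σ s = s := by
      refine CharTwo.sq_injective (R := F) ?_
      show C.σ s ^ 2 = s ^ 2
      rw [sq, sq, ← map_mul, ← hs, hz]
    rw [hs]
    exact hsq s hs'
  · rw [show z = (z + 1) / 2 * ((z + 1) / 2) - (z - 1) / 2 * ((z - 1) / 2) by field_simp; ring]
    refine A.sub_mem (hsq _ ?_) (hsq _ ?_) <;> simp [hz, map_ofNat]

/-- The scalars: `κ = φ r`, the parameter `γ` of the transvection and `ε` of the short root element,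
with one of the two stability conditions. -/
structure Params (C : Conj F q) (κ γ ε w : F) : Prop where
  htr : κ + C.σ κ ≠ 0
  hsub : C.σ κ - κ ≠ 0
  hγ : C.σ γ = -γ
  hγ0 : γ ≠ 0
  hε : C.σ ε = ε
  hε0 : ε ≠ 0
  hw : ∀ x, C.σ x = x → x ≠ 0 → ∃ k : ℕ, w ^ k = x
  cases : ((2 : F) = 0 ∧ γ = 1 ∧ ε * (κ * C.σ κ) = 1 ∧ ε * (κ + C.σ κ) = w) ∨
    ((2 : F) ≠ 0 ∧ 2 * γ * (κ * C.σ κ) = κ - C.σ κ ∧
      ((-2 : F) * γ * γ * (κ * C.σ κ) * (κ * C.σ κ) * ε * ε = w ∨
        (-2 : F) * γ * γ * (κ * C.σ κ) * (κ * C.σ κ) * ε * ε = w * w))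

theorem exists_params [Fintype F] (hF : Fintype.card F = q ^ 2) (C : Conj F q)
    (hne : C.σ ≠ RingHom.id F) : ∃ κ γ ε w, Params C κ γ ε w := by
  obtain ⟨w, hwσ, hw0, hw⟩ := exists_fixed_generator hF C
  obtain ⟨l, hl⟩ : ∃ l, C.σ l ≠ l := by
    by_contra h
    push Not at h
    exact hne (RingHom.ext h)
  by_cases h2 : (2 : F) = 0
  · have : CharP F 2 := CharTwo.of_one_ne_zero_of_two_eq_zero one_ne_zero h2
    have hd : l + C.σ l ≠ 0 := fun e => hl (CharTwo.add_eq_zero.1 e).symm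
    have hdσ : C.σ (l + C.σ l) = l + C.σ l := by rw [map_add, C.hσ2, add_comm]
    set μ := l * w / (l + C.σ l) with hμ
    have hμtr : μ + C.σ μ = w := by
      rw [hμ, map_div₀, map_mul, hdσ, hwσ, ← add_div, ← add_mul, mul_comm,
        mul_div_assoc, div_self hd, mul_one]
    have hμ0 : μ ≠ 0 := fun e => hw0 (by rw [← hμtr, e, map_zero, add_zero])
    have hσμ0 : C.σ μ ≠ 0 := (map_ne_zero C.σ).2 hμ0
    have htr : μ⁻¹ + C.σ μ⁻¹ ≠ 0 := by
      rw [map_inv₀, inv_add_inv hμ0 hσμ0, hμtr]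
      exact div_ne_zero hw0 (mul_ne_zero hμ0 hσμ0)
    refine ⟨μ⁻¹, 1, μ * C.σ μ, w, htr, ?_, by rw [map_one, CharTwo.neg_eq], one_ne_zero,
      C.norm_fixed μ, mul_ne_zero hμ0 hσμ0, hw, .inl ⟨h2, rfl, ?_, ?_⟩⟩
    · rw [CharTwo.sub_eq_add, add_comm]; exact htr
    · rw [map_inv₀]; field_simp
    · rw [map_inv₀, ← hμtr]; field_simp; ring
  · set g0 := l - C.σ l with hg0def
    have hg : C.σ g0 = -g0 := C.trace_zero_sub_conj l
    have hg0 : g0 ≠ 0 := sub_ne_zero.2 (Ne.symm hl)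
    have hσ : C.σ (1 + g0) = 1 - g0 := by rw [map_add, map_one, hg, sub_eq_add_neg]
    have hκ0 : (1 + g0) ≠ 0 := by
      intro e
      have e' := congrArg C.σ e
      rw [hσ, map_zero] at e'
      exact h2 (by linear_combination e + e')
    have hσκ0 : C.σ (1 + g0) ≠ 0 := (map_ne_zero C.σ).2 hκ0
    set N := (1 + g0) * C.σ (1 + g0) with hN
    have hN0 : N ≠ 0 := mul_ne_zero hκ0 hσκ0
    have hNσ : C.σ N = N := C.norm_fixed _
    set γ := g0 / N with hγdef
    have hγ : C.σ γ = -γ := by rw [hγdef, map_div₀, hg, hNσ, neg_div]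
    have hγ0 : γ ≠ 0 := div_ne_zero hg0 hN0
    set c0 := (-2 : F) * γ * γ * N * N with hc0
    have hc0σ : C.σ c0 = c0 := by
      simp only [hc0, map_mul, map_neg, map_ofNat, hγ, hNσ]; ring
    have hc00 : c0 ≠ 0 := by
      simp only [hc0, ne_eq, mul_eq_zero, neg_eq_zero, h2, hγ0, hN0, or_self, not_false_eq_true]
    obtain ⟨k, hk⟩ := hw c0 hc0σ hc00
    obtain ⟨ε, hε, hε0, hT⟩ : ∃ ε, C.σ ε = ε ∧ ε ≠ 0 ∧ (c0 * ε * ε = w ∨ c0 * ε * ε = w * w) := by
      rcases Nat.even_or_odd' k with ⟨j, rfl | rfl⟩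
      · refine ⟨w / w ^ j, by rw [map_div₀, map_pow, hwσ],
          div_ne_zero hw0 (pow_ne_zero _ hw0), .inr ?_⟩
        rw [← hk, pow_mul']
        field_simp
      · refine ⟨(w ^ j)⁻¹, by rw [map_inv₀, map_pow, hwσ],
          inv_ne_zero (pow_ne_zero _ hw0), .inl ?_⟩
        rw [← hk, pow_succ, pow_mul']
        field_simp
    refine ⟨1 + g0, γ, ε, w, ?_, ?_, hγ, hγ0, hε, hε0, hw, .inr ⟨h2, ?_, hT⟩⟩
    · rw [hσ, show 1 + g0 + (1 - g0) = 2 by ring]; exact h2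
    · rw [hσ, show 1 - g0 - (1 + g0) = -(2 * g0) by ring]
      exact neg_ne_zero.2 (mul_ne_zero h2 hg0)
    · rw [← hN, hγdef, mul_assoc, div_mul_cancel₀ _ hN0, hσ]; ring

namespace Model

variable {γ ε w : F} (M : Model C r κ) {K : Subgroup ↥(Cfsg.SU (2 * r + 1) F q)}

theorem X_mem (hr : 2 ≤ r) (hγ : C.σ γ = -γ) (hg : M.gEl γ ε ∈ K) {l : F} (hl : C.σ l = -l)
    (ht : C.tm (M.a 0) l ∈ K) :
    C.rt (M.a 0) (M.a 1) (l * -(ε * γ * (κ * C.σ κ))) *
      C.tm (M.a 1) (l * (-(ε * γ * (κ * C.σ κ)) * C.σ (-(ε * γ * (κ * C.σ κ))))) ∈ K := by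
  have := mul_mem (mul_mem (mul_mem hg ht) (inv_mem hg)) (inv_mem ht)
  rwa [C.conj_tm _ (M.iso hr 0) hl, M.gEl_a0 hr hγ,
    C.tm_add_smul (M.orth2 hr (by omega) (by omega)) _ hl, mul_inv_cancel_right] at this

/-- All transvections at `a₀`. -/
theorem lam_mem [Fintype F] (hr : 2 ≤ r) (P : Params C κ γ ε w) (hU : M.U ∈ K)
    (ht : C.tm (M.a 0) γ ∈ K) (hs : C.rt (M.a 0) (M.a 1) ε ∈ K) :
    ∀ c, C.σ c = -c → C.tm (M.a 0) c ∈ K := by
  let A : AddSubgroup F :=
    { carrier := {x | C.σ x = x ∧ C.tm (M.a 0) (γ * x) ∈ K}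
      zero_mem' := ⟨map_zero _, by rw [mul_zero, C.tm_zero (M.iso hr 0)]; exact K.one_mem⟩
      add_mem' := fun {x y} hx hy => ⟨by rw [map_add, hx.1, hy.1], by
        rw [mul_add, ← C.tm_mul (M.iso hr 0) (C.trace_zero_mul P.hγ hx.1)
          (C.trace_zero_mul P.hγ hy.1)]
        exact mul_mem hx.2 hy.2⟩
      neg_mem' := fun {x} hx => ⟨by rw [map_neg, hx.1], by
        rw [mul_neg, ← C.tm_inv (M.iso hr 0) (C.trace_zero_mul P.hγ hx.1)]
        exact inv_mem hx.2⟩ }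
  have hA1 : (1 : F) ∈ A := ⟨map_one _, by rwa [mul_one]⟩
  have hg : M.gEl γ ε ∈ K :=
    mul_mem (mul_mem (M.tm_shift_mem hr hU P.hγ ht _) hs) (inv_mem (M.tm_shift_mem hr hU P.hγ ht _))
  have hst : ∀ x ∈ A, w * w * x ∈ A := by
    rcases P.cases with ⟨h2, hγ1, hN, hT⟩ | ⟨h2, hrel, hT⟩
    · have : CharP F 2 := CharTwo.of_one_ne_zero_of_two_eq_zero one_ne_zero h2
      have hone : -(ε * γ * (κ * C.σ κ)) = 1 := by rw [hγ1, mul_one, hN, CharTwo.neg_eq]
      have hone' : ε * γ * (κ * C.σ κ) = 1 := by rw [hγ1, mul_one, hN]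
      have hwσ : C.σ w = w := by rw [← hT, map_mul, map_add, P.hε, C.hσ2]; ring
      suffices hstep : ∀ x ∈ A, w * x ∈ A by
        intro x hx
        rw [mul_assoc]
        exact hstep _ (hstep x hx)
      rintro x ⟨hx, hxK⟩
      have hl : C.σ (γ * x) = -(γ * x) := C.trace_zero_mul P.hγ hx
      have hY := M.long_mem hr hU P.hε hl hs hxK
      set c := γ * x * -(ε * κ) with hcdef
      set l := γ * x * (-(ε * κ) * C.σ (-(ε * κ))) with hldef
      have hlσ : C.σ l = -l := C.trace_zero_mul hl (C.norm_fixed _)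
      have h0d : Conj.Orth2 (q := q) (M.a 0) (M.a (r - 1)) := M.orth2 hr (by omega) (by omega)
      have h1d : Conj.Orth2 (q := q) (M.a 1) (M.a (r - 1)) := M.orth2 hr (by omega) (by omega)
      have h2' := mul_mem (inv_mem hY) (mul_mem (mul_mem hg hY) (inv_mem hg))
      have e2 : M.gEl γ ε * (C.rt (M.a 0) (M.a (r - 1)) c * C.tm (M.a (r - 1)) l) *
          (M.gEl γ ε)⁻¹ = (M.gEl γ ε * C.rt (M.a 0) (M.a (r - 1)) c * (M.gEl γ ε)⁻¹) *
            (M.gEl γ ε * C.tm (M.a (r - 1)) l * (M.gEl γ ε)⁻¹) := by group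
      rw [e2, C.conj_rt _ h0d, C.conj_tm _ (M.iso hr _) hlσ, M.gEl_a0 hr P.hγ, hone, one_smul,
        M.gEl_fix hr P.hγ ε (j := (r : ℤ) - 1) (by omega) (by omega),
        C.rt_add_left h0d h1d (M.orth (by omega) (by omega)),
        conj_quot _ (C.commute_tm_rt (M.iso hr _) hlσ h1d (M.orth (by omega) (by omega))
          (M.iso hr _) c).symm] at h2'
      have hfin : C.tm (M.a 1) (c - C.σ c) ∈ K := by
        rcases (show r = 2 ∨ 3 ≤ r by omega) with h22 | h3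
        · rwa [show (r : ℤ) - 1 = 1 by omega, C.rt_self (M.iso hr _)] at h2'
        · have h3' : C.rt (M.a 0) (M.a (((r - 3 : ℕ) : ℤ) + 1)) c ∈ K := by
            have := M.rt_shift_mem hr hU (i := 1) (d := (r : ℤ) - 2) (by omega) (by omega) (c := c)
              (by rwa [show (1 : ℤ) + ((r : ℤ) - 2) = r - 1 by ring]) 0
            rwa [zero_add, show (r : ℤ) - 2 = ((r - 3 : ℕ) : ℤ) + 1 by omega] at this
          have h4 := M.descend_mem hr hU P.hγ P.hε hs ht (r - 3) (by omega) c h3'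
          rw [hone', one_pow, mul_one] at h4
          have := M.square_mem hr P.hγ hg (c := c) (d := 0) (by simp)
            (by rwa [C.tm_zero (M.iso hr 1), mul_one])
          rwa [hone, map_one, mul_one] at this
      refine ⟨by rw [map_mul, hwσ, hx], ?_⟩
      have e : c - C.σ c = γ * (w * x) := by
        rw [hcdef, map_mul, hl, map_neg, map_mul, P.hε, hγ1, ← hT]
        linear_combination (-(ε * x * (κ + C.σ κ))) * h2
      rw [e] at hfin
      exact M.tm_shift_mem hr hU (C.trace_zero_mul P.hγ (by rw [map_mul, hwσ, hx])) hfin 0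
    · have hhalf : ∀ x, C.σ x = x → C.tm (M.a 0) (γ * (2 * x)) ∈ K → x ∈ A := by
        intro x hx h
        have hA2 : 2 * x ∈ A := ⟨by rw [map_mul, map_ofNat, hx], h⟩
        have hinj : Function.Injective fun y : A => y + y := fun y z e => Subtype.ext
          (mul_left_cancel₀ h2 (by simpa [two_mul] using congrArg (fun z : A => (z : F)) e))
        obtain ⟨y, hy⟩ := Finite.injective_iff_surjective.1 hinj ⟨2 * x, hA2⟩
        rw [← mul_left_cancel₀ h2 ((two_mul (y : F)).trans (congrArg (fun z : A => (z : F)) hy))]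
        exact y.2
      set ρ := -(ε * γ * (κ * C.σ κ)) with hρdef
      have hNρ : C.σ (ρ * C.σ ρ) = ρ * C.σ ρ := C.norm_fixed ρ
      have hstep : ∀ x ∈ A, 2 * (ρ * C.σ ρ) * x ∈ A := by
        rintro x ⟨hx, hxK⟩
        have hl : C.σ (γ * x) = -(γ * x) := C.trace_zero_mul P.hγ hx
        have hX := M.X_mem hr P.hγ hg hl hxK
        have h' := M.square_mem hr P.hγ hg (C.trace_zero_mul hl hNρ) hX
        refine ⟨by rw [map_mul, map_mul, map_ofNat, hNρ, hx], ?_⟩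
        have h'' := M.tm_shift_mem hr hU (C.trace_zero_sub_conj _) h' 0
        have e : γ * x * ρ * C.σ ρ - C.σ (γ * x * ρ * C.σ ρ) = γ * (2 * (ρ * C.σ ρ) * x) := by
          rw [mul_assoc (γ * x) ρ, map_mul, hl, hNρ]; ring
        rwa [e] at h''
      have e : 2 * (ρ * C.σ ρ) = (-2 : F) * γ * γ * (κ * C.σ κ) * (κ * C.σ κ) * ε * ε := by
        simp only [hρdef, map_neg, map_mul, P.hε, P.hγ, C.hσ2]; ring
      rw [e] at hstep
      rcases hT with hT | hT
      · intro x hx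
        rw [mul_assoc]
        have := hstep _ hx
        rw [hT] at this
        have := hstep _ this
        rwa [hT] at this
      · intro x hx
        have := hstep _ hx
        rwa [hT] at this
  intro c hc
  have := fixed_subset C P.hw hA1 hst (c / γ) (by rw [map_div₀, hc, P.hγ, neg_div_neg_eq])
  obtain ⟨-, h⟩ := this
  rwa [mul_div_cancel₀ _ P.hγ0] at h

/-- All short root elements at `(a₀, a₁)`. -/
theorem sig_mem [Fintype F] (hr : 2 ≤ r) (P : Params C κ γ ε w) (hU : M.U ∈ K)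
    (ht : C.tm (M.a 0) γ ∈ K) (hs : C.rt (M.a 0) (M.a 1) ε ∈ K) :
    ∀ c, C.rt (M.a 0) (M.a 1) c ∈ K := by
  have hL := M.lam_mem hr P hU ht hs
  have hg : M.gEl γ ε ∈ K :=
    mul_mem (mul_mem (M.tm_shift_mem hr hU P.hγ ht _) hs) (inv_mem (M.tm_shift_mem hr hU P.hγ ht _))
  have hκ0 : κ ≠ 0 := fun e => P.htr (by rw [e, map_zero, add_zero])
  have hσκ0 : C.σ κ ≠ 0 := (map_ne_zero C.σ).2 hκ0
  set N := κ * C.σ κ with hN
  have hN0 : N ≠ 0 := mul_ne_zero hκ0 hσκ0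
  have hNσ : C.σ N = N := C.norm_fixed κ
  have line1 : ∀ x, C.σ x = x → C.rt (M.a 0) (M.a 1) (γ * x * -(ε * γ * N)) ∈ K := by
    intro x hx
    have hl : C.σ (γ * x) = -(γ * x) := C.trace_zero_mul P.hγ hx
    have hX := M.X_mem hr P.hγ hg hl (hL _ hl)
    rwa [K.mul_mem_cancel_right (M.tm_shift_mem hr hU (C.trace_zero_mul hl (C.norm_fixed _))
      (hL _ (C.trace_zero_mul hl (C.norm_fixed _))) 1)] at hX
  set z := γ * -(ε * κ) * (ε * γ * N) ^ (r - 2) with hz
  have line2 : ∀ x, C.σ x = x → C.rt (M.a 0) (M.a 1) (x * z) ∈ K := by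
    intro x hx
    have hl : C.σ (γ * x) = -(γ * x) := C.trace_zero_mul P.hγ hx
    have hY := M.long_mem hr hU P.hε hl hs (hL _ hl)
    rw [K.mul_mem_cancel_right (M.tm_shift_mem hr hU (C.trace_zero_mul hl (C.norm_fixed _))
      (hL _ (C.trace_zero_mul hl (C.norm_fixed _))) _)] at hY
    have h4 := M.descend_mem hr hU P.hγ P.hε hs ht (r - 2) (by omega) (γ * x * -(ε * κ))
      (by rwa [show ((r - 2 : ℕ) : ℤ) + 1 = (r : ℤ) - 1 by omega])
    rw [hz, show x * (γ * -(ε * κ) * (ε * γ * N) ^ (r - 2)) =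
      γ * x * -(ε * κ) * (ε * γ * N) ^ (r - 2) by ring]
    exact h4
  have hzσ : C.σ z - z ≠ 0 := by
    have e : C.σ z - z = γ * ε * (ε * γ * N) ^ (r - 2) * ((-1) ^ (r - 2) * C.σ κ + κ) := by
      rw [hz, map_mul, map_mul, map_pow, map_neg, map_mul, map_mul, map_mul, P.hγ, P.hε, hNσ,
        show ε * -γ * N = -1 * (ε * γ * N) by ring, mul_pow]
      ring
    rw [e]
    refine mul_ne_zero (mul_ne_zero (mul_ne_zero P.hγ0 P.hε0)
      (pow_ne_zero _ (mul_ne_zero (mul_ne_zero P.hε0 P.hγ0) hN0))) ?_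
    rcases neg_one_pow_eq_or F (r - 2) with h | h <;> rw [h]
    · rw [one_mul, add_comm]; exact P.htr
    · intro e; exact P.hsub (by linear_combination -e)
  intro c
  set x2 := (C.σ c - c) / (C.σ z - z) with hx2
  have hx2σ : C.σ x2 = x2 := by
    rw [hx2, map_div₀, map_sub, map_sub, C.hσ2, C.hσ2, ← neg_sub (C.σ c), ← neg_sub (C.σ z),
      neg_div_neg_eq]
  set R := γ * -(ε * γ * N) with hR
  have hR0 : R ≠ 0 := mul_ne_zero P.hγ0 (neg_ne_zero.2 (mul_ne_zero (mul_ne_zero P.hε0 P.hγ0) hN0))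
  have hRσ : C.σ R = R := by
    simp only [hR, map_mul, map_neg, P.hγ, P.hε, hNσ]; ring
  have hrest : C.σ (c - x2 * z) = c - x2 * z := by
    rw [map_sub, map_mul, hx2σ]
    have : x2 * (C.σ z - z) = C.σ c - c := div_mul_cancel₀ _ hzσ
    linear_combination -this
  set x1 := (c - x2 * z) / R with hx1
  have hx1σ : C.σ x1 = x1 := by rw [hx1, map_div₀, hrest, hRσ]
  have := mul_mem (line1 x1 hx1σ) (line2 x2 hx2σ)
  rw [C.rt_add (M.orth2 hr (by omega) (by omega))] at this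
  rwa [show γ * x1 * -(ε * γ * N) + x2 * z = c by
    rw [show γ * x1 * -(ε * γ * N) = x1 * R by rw [hR]; ring, hx1, div_mul_cancel₀ _ hR0,
      sub_add_cancel]] at this

end Model

end CfsgLib.RegUnipU
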