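import Cfsg.Agent.Lib.RegUnipU.Frame
import Cfsg.Agent.Lib.IsomConj.Unitary

/-!
`SU_3(q)`, `q ≥ 3`, is generated by `u` and `g u`, conjugate regular unipotent elements, where `g` is
`diag(a, a⁻², a)` times a transvection.
-/

set_option autoImplicit false

namespace CfsgLib.RegUnipU

open Matrix

variable {F : Type*} [Field F] [Fintype F] {q : ℕ}

/-- The matrix with three given columns. -/
def colMat (x y w : Fin 3 → F) : Matrix (Fin 3) (Fin 3) F :=
  !![x 0, y 0, w 0; x 1, y 1, w 1; x 2, y 2, w 2]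

omit [Fintype F] in
theorem mul_colMat (M : Matrix (Fin 3) (Fin 3) F) (x y w : Fin 3 → F) :
    M * colMat x y w = colMat (M *ᵥ x) (M *ᵥ y) (M *ᵥ w) := by
  ext i j
  fin_cases i <;> fin_cases j <;>
    simp [colMat, Matrix.mul_apply, mulVec, dotProduct, Fin.sum_univ_three]

omit [Fintype F] in
theorem colMat_mulVec (x y w : Fin 3 → F) (c : Fin 3 → F) :
    colMat x y w *ᵥ c = c 0 • x + c 1 • y + c 2 • w := by
  ext i
  fin_cases i <;> simp [colMat, mulVec, dotProduct, Fin.sum_univ_three] <;> ring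

/-- The data of the construction. -/
structure Data (C : Conj F q) (a l z s : F) : Prop where
  ha : a * C.σ a = 1
  ha2 : a * a ≠ 1
  hl : C.σ l = -l
  hl0 : l ≠ 0
  hs : s + C.σ s = -(z * C.σ z)
  hz : z ≠ 0
  hX : a ^ 3 * l * s = 3 * a ^ 2 - 2 * a ^ 3 - 1

namespace Frame

variable {C : Conj F q} (R : Frame C) {a l z s : F}

/-- `diag(a, a⁻², a)` times the transvection at `e`. -/
noncomputable def gEl (a l : F) : ↥(Cfsg.SU 3 F q) := R.hom a * C.tm (R.E ![1, 0, 0]) l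

omit [Fintype F] in
theorem gEl_apply (ha : a * C.σ a = 1) (hl : C.σ l = -l) (x y w : F) :
    mat (R.gEl a l) *ᵥ R.E ![x, y, w] = R.E ![a * (x + l * w), a⁻¹ * a⁻¹ * y, a * w] := by
  rw [gEl, mulVec_mul, R.tme_apply hl, R.hom_apply ha]

theorem gEl_pow (hF : Fintype.card F = q ^ 2) (ha : a * C.σ a = 1) (hl : C.σ l = -l) :
    R.gEl a l ^ (q + 1) = C.tm (R.E ![1, 0, 0]) l := by
  have key : ∀ (k : ℕ) (x y w : F), mat (R.gEl a l ^ k) *ᵥ R.E ![x, y, w] =
      R.E ![a ^ k * (x + (k : F) * l * w), (a⁻¹ * a⁻¹) ^ k * y, a ^ k * w] := by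
    intro k
    induction k with
    | zero => intro x y w; simp [one_act]
    | succ k ih =>
      intro x y w
      rw [pow_succ, mulVec_mul, R.gEl_apply ha hl, ih]
      congr 1
      refine vec_eq ?_ ?_ ?_ <;> push_cast <;> ring
  refine R.ext3 fun x y w => ?_
  rw [key, R.tme_apply hl]
  have hq : (q : F) = 0 := by
    have := Nat.cast_card_eq_zero F
    rw [hF, Nat.cast_pow] at this
    exact pow_eq_zero_iff two_ne_zero |>.1 this
  have h1 : a ^ (q + 1) = 1 := by rw [pow_succ', ← C.hσ, ha]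
  rw [mul_pow, inv_pow, h1]
  congr 1
  refine vec_eq ?_ ?_ ?_ <;> simp [hq]

omit [Fintype F] in
theorem low_mul {z₁ s₁ z₂ s₂ : F} (h₁ : s₁ + C.σ s₁ = -(z₁ * C.σ z₁))
    (h₂ : s₂ + C.σ s₂ = -(z₂ * C.σ z₂)) :
    (s₁ + s₂ - C.σ z₁ * z₂) + C.σ (s₁ + s₂ - C.σ z₁ * z₂) = -((z₁ + z₂) * C.σ (z₁ + z₂)) ∧
      R.low z₁ s₁ * R.low z₂ s₂ = R.low (z₁ + z₂) (s₁ + s₂ - C.σ z₁ * z₂) := by
  have h : (s₁ + s₂ - C.σ z₁ * z₂) + C.σ (s₁ + s₂ - C.σ z₁ * z₂) = -((z₁ + z₂) * C.σ (z₁ + z₂)) := by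
    simp only [map_add, map_sub, map_mul, C.hσ2]
    linear_combination h₁ + h₂
  refine ⟨h, R.ext3 fun x y w => ?_⟩
  rw [mulVec_mul, R.low_apply h₂, R.low_apply h₁, R.low_apply h]
  congr 1
  refine vec_eq rfl ?_ ?_
  · ring
  · rw [map_add]; ring

omit [Fintype F] in
theorem low_comm {z₁ s₁ z₂ s₂ : F} (h₁ : s₁ + C.σ s₁ = -(z₁ * C.σ z₁))
    (h₂ : s₂ + C.σ s₂ = -(z₂ * C.σ z₂)) :
    R.low z₁ s₁ * R.low z₂ s₂ =
      C.tm (R.E ![0, 0, 1]) (C.σ z₂ * z₁ - C.σ z₁ * z₂) * (R.low z₂ s₂ * R.low z₁ s₁) := by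
  have hc : C.σ (C.σ z₂ * z₁ - C.σ z₁ * z₂) = -(C.σ z₂ * z₁ - C.σ z₁ * z₂) := by
    simp only [map_sub, map_mul, C.hσ2]; ring
  refine R.ext3 fun x y w => ?_
  simp only [mulVec_mul, R.low_apply h₁, R.low_apply h₂, R.tmf_apply hc]
  congr 1
  refine vec_eq rfl ?_ ?_ <;> ring

omit [Fintype F] in
theorem hom_low {ζ σ' : F} (ha : a * C.σ a = 1) (h : σ' + C.σ σ' = -(ζ * C.σ ζ)) :
    σ' + C.σ σ' = -(ζ * (a⁻¹) ^ 3 * C.σ (ζ * (a⁻¹) ^ 3)) ∧
      R.hom a * R.low ζ σ' * (R.hom a)⁻¹ = R.low (ζ * (a⁻¹) ^ 3) σ' := by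
  have ha0 : a ≠ 0 := left_ne_zero_of_mul_eq_one ha
  have hσ : C.σ a = a⁻¹ := eq_inv_of_mul_eq_one_right ha
  have h' : σ' + C.σ σ' = -(ζ * (a⁻¹) ^ 3 * C.σ (ζ * (a⁻¹) ^ 3)) := by
    rw [map_mul, map_pow, map_inv₀, hσ, inv_inv, h]
    field_simp
  refine ⟨h', ?_⟩
  rw [mul_inv_eq_iff_eq_mul]
  refine R.ext3 fun x y w => ?_
  simp only [mulVec_mul, R.low_apply h, R.hom_apply ha, R.low_apply h']
  congr 1
  refine vec_eq rfl ?_ ?_
  · field_simp
  · rw [map_mul, map_pow, map_inv₀, hσ, inv_inv]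
    field_simp

/-- `g u` is conjugate to `u` in `SU_3(q)`. -/
theorem exists_conj_gu (hF : Fintype.card F = q ^ 2) (P : Data C a l z s) :
    ∃ h : ↥(Cfsg.SU 3 F q), h * R.low z s * h⁻¹ = R.gEl a l * R.low z s := by
  have ha0 : a ≠ 0 := left_ne_zero_of_mul_eq_one P.ha
  have hσa : C.σ a = a⁻¹ := eq_inv_of_mul_eq_one_right P.ha
  set u := R.low z s with hu
  set V := R.gEl a l * R.low z s with hV
  let L : ↥(Cfsg.SU 3 F q) → Matrix (Fin 3) (Fin 3) F := fun g =>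
    LinearMap.toMatrix' (R.E.symm.toLinearMap ∘ₗ Matrix.toLin' (mat g) ∘ₗ R.E.toLinearMap)
  have hL : ∀ g x, R.E (L g *ᵥ x) = mat g *ᵥ R.E x := by
    intro g x
    rw [LinearMap.toMatrix'_mulVec]
    simp
  have hL' : ∀ g x y, mat g *ᵥ R.E x = R.E y → L g *ᵥ x = y := fun g x y h =>
    R.E.injective (by rw [hL, h])
  -- the two orbits of `e`
  have u0 : L u *ᵥ ![1, 0, 0] = ![1, z, s] := hL' _ _ _ (by
    rw [hu, R.low_apply P.hs]; congr 1; exact vec_eq rfl (by ring) (by ring))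
  have u1 : L u *ᵥ ![1, z, s] = ![1, 2 * z, 2 * s - z * C.σ z] := hL' _ _ _ (by
    rw [hu, R.low_apply P.hs]; congr 1; exact vec_eq rfl (by ring) (by ring))
  have u2 : L u *ᵥ ![1, 2 * z, 2 * s - z * C.σ z] =
      (![1, 0, 0] : Fin 3 → F) + (-3 : F) • ![1, z, s] +
        (3 : F) • ![1, 2 * z, 2 * s - z * C.σ z] := hL' _ _ _ (by
    rw [hu, R.low_apply P.hs]; congr 1
    ext i; fin_cases i <;> simp <;> ring)
  set v1 : Fin 3 → F := ![a * (1 + l * s), a⁻¹ * a⁻¹ * z, a * s] with hv1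
  have hV' : ∀ x y w, mat V *ᵥ R.E ![x, y, w] = R.E ![a * (x + l * (s * x - C.σ z * y + w)),
      a⁻¹ * a⁻¹ * (z * x + y), a * (s * x - C.σ z * y + w)] := by
    intro x y w
    rw [hV, mulVec_mul, R.low_apply P.hs, R.gEl_apply P.ha P.hl]
  have v0' : L V *ᵥ ![1, 0, 0] = v1 := hL' _ _ _ (by
    rw [hV']; congr 1; exact vec_eq (by ring) (by ring) (by ring))
  set v2 : Fin 3 → F := ![a * (v1 0 + l * (s * v1 0 - C.σ z * v1 1 + v1 2)),
    a⁻¹ * a⁻¹ * (z * v1 0 + v1 1), a * (s * v1 0 - C.σ z * v1 1 + v1 2)] with hv2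
  have v1' : L V *ᵥ v1 = v2 := hL' _ _ _ (by rw [hv1, hV']; simp [hv2, hv1])
  have hσs : C.σ s = -(z * C.σ z) - s := by linear_combination P.hs
  have hσX : C.σ s * l = -(3 * a - 2 - a ^ 3) := by
    have e := congrArg C.σ P.hX
    simp only [map_mul, map_sub, map_pow, map_ofNat, map_one, hσa, P.hl] at e
    field_simp at e
    linear_combination -e
  have hls : l * s = (3 * a ^ 2 - 2 * a ^ 3 - 1) * (a⁻¹) ^ 3 := by
    rw [← P.hX]; field_simp
  have hzz : l * (z * C.σ z) = (3 * a - 2 - a ^ 3) - (3 * a ^ 2 - 2 * a ^ 3 - 1) * (a⁻¹) ^ 3 := by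
    linear_combination -1 * hσX + l * hσs - hls
  have v2' : L V *ᵥ v2 = (![1, 0, 0] : Fin 3 → F) + (-3 : F) • v1 + (3 : F) • v2 := hL' _ _ _ (by
    rw [hv2, hV']; congr 1
    have hss : l * s * a ^ 3 = 3 * a ^ 2 - 2 * a ^ 3 - 1 := by rw [← P.hX]; ring
    have hNz : l * (z * C.σ z) * a ^ 3 = (3 * a - 2 - a ^ 3) * a ^ 3 - (3 * a ^ 2 - 2 * a ^ 3 - 1) := by
      rw [hzz]; field_simp
    have hlz : z * C.σ z = ((3 * a - 2 - a ^ 3) * a ^ 3 - (3 * a ^ 2 - 2 * a ^ 3 - 1)) / (l * a ^ 3) := by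
      rw [← hNz]; field_simp [P.hl0]
    have hls' : s = (3 * a ^ 2 - 2 * a ^ 3 - 1) / (l * a ^ 3) := by
      rw [← hss]; field_simp [P.hl0]
    have hσz : C.σ z = ((3 * a - 2 - a ^ 3) * a ^ 3 - (3 * a ^ 2 - 2 * a ^ 3 - 1)) / (l * a ^ 3) / z := by
      rw [← hlz, mul_div_cancel_left₀ _ P.hz]
    have hz0 := P.hz
    have hl0 := P.hl0
    ext i; fin_cases i <;>
      simp [hv1] <;> rw [hσz, hls'] <;> field_simp <;> ring)
  -- determinants of the orbit matrices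
  set Du := colMat (![1, 0, 0] : Fin 3 → F) ![1, z, s] ![1, 2 * z, 2 * s - z * C.σ z] with hDu
  set Dv := colMat (![1, 0, 0] : Fin 3 → F) v1 v2 with hDv
  have hdu : Du.det = -(z * (z * C.σ z)) := by simp [hDu, colMat, det_fin_three]; ring
  have hdv : Dv.det * (l * a ^ 3) = -(z * (a - 1) ^ 3) := by
    have hz0 := P.hz
    have hl0 := P.hl0
    have e : Dv.det = v1 1 * v2 2 - v2 1 * v1 2 := by simp [hDv, colMat, det_fin_three]
    rw [e]
    simp [hv1, hv2]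
    field_simp
    linear_combination (a ^ 3 - 1) * hls - hzz +
      (3 * a ^ 2 - 2 * a ^ 3 - 1) * mul_inv_cancel₀ (pow_ne_zero 3 ha0)
  have hz2 : z * C.σ z ≠ 0 := mul_ne_zero P.hz ((map_ne_zero C.σ).2 P.hz)
  have hdu0 : Du.det ≠ 0 := by rw [hdu]; exact neg_ne_zero.2 (mul_ne_zero P.hz hz2)
  have ha1 : a - 1 ≠ 0 := sub_ne_zero.2 fun h => P.ha2 (by rw [h, mul_one])
  have hdv0 : Dv.det ≠ 0 := by
    intro h
    rw [h, zero_mul] at hdv
    exact neg_ne_zero.2 (mul_ne_zero P.hz (pow_ne_zero 3 ha1)) hdv.symm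
  -- similarity
  have hsim : ∃ g : GL (Fin 3) F, (g : Matrix (Fin 3) (Fin 3) F) * L u = L V * g := by
    refine ⟨GeneralLinearGroup.mkOfDetNeZero (Dv * Du⁻¹) ?_, ?_⟩
    · rw [det_mul, det_nonsing_inv, Ring.inverse_eq_inv']; exact mul_ne_zero hdv0 (inv_ne_zero hdu0)
    have hDuU : IsUnit Du.det := isUnit_iff_ne_zero.2 hdu0
    let S : Matrix (Fin 3) (Fin 3) F := !![0, 0, 1; 1, 0, -3; 0, 1, 3]
    have e1 : L u * Du = Du * S := by
      rw [hDu, mul_colMat, u0, u1, u2]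
      ext i j; fin_cases i <;> fin_cases j <;> simp [colMat, S, Matrix.mul_apply, Fin.sum_univ_three, Matrix.vecHead, Matrix.vecTail] <;> ring
    have e2 : L V * Dv = Dv * S := by
      rw [hDv, mul_colMat, v0', v1', v2']
      ext i j; fin_cases i <;> fin_cases j <;> simp [colMat, S, Matrix.mul_apply, Fin.sum_univ_three, Matrix.vecHead, Matrix.vecTail] <;> ring
    show Dv * Du⁻¹ * L u = L V * (Dv * Du⁻¹)
    calc Dv * Du⁻¹ * L u = Dv * Du⁻¹ * (L u * Du) * Du⁻¹ := by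
          simp only [Matrix.mul_assoc, Matrix.mul_nonsing_inv _ hDuU, Matrix.mul_one]
      _ = Dv * (Du⁻¹ * Du) * S * Du⁻¹ := by rw [e1]; simp only [Matrix.mul_assoc]
      _ = L V * Dv * Du⁻¹ := by rw [Matrix.nonsing_inv_mul _ hDuU, Matrix.mul_one, ← e2]
      _ = _ := Matrix.mul_assoc _ _ _
  obtain ⟨gg, hgg⟩ := hsim
  let E0 : Matrix (Fin 3) (Fin 3) F := LinearMap.toMatrix' R.E.toLinearMap
  let E1 : Matrix (Fin 3) (Fin 3) F := LinearMap.toMatrix' R.E.symm.toLinearMap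
  have hE0 : ∀ x, E0 *ᵥ x = R.E x := fun x => LinearMap.toMatrix'_mulVec _ _
  have hE1 : ∀ x, E1 *ᵥ x = R.E.symm x := fun x => LinearMap.toMatrix'_mulVec _ _
  have h01 : E0 * E1 = 1 := Matrix.ext_of_mulVec_single fun j => by
    rw [← mulVec_mulVec, hE1, hE0, R.E.apply_symm_apply, one_mulVec]
  have h10 : E1 * E0 = 1 := Matrix.ext_of_mulVec_single fun j => by
    rw [← mulVec_mulVec, hE0, hE1, R.E.symm_apply_apply, one_mulVec]
  have hLm : ∀ g, L g = E1 * mat g * E0 := fun g => Matrix.ext_of_mulVec_single fun j => by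
    rw [← mulVec_mulVec, ← mulVec_mulVec, hE0, hE1]
    exact R.E.injective (by rw [hL, R.E.apply_symm_apply])
  let toG : ↥(Cfsg.SU 3 F q) → Cfsg.GU 3 F q := fun g =>
    ⟨Matrix.SpecialLinearGroup.toGL g.1, g.2⟩
  have hconj : IsConj ((toG u : Cfsg.GU 3 F q) : GL (Fin 3) F) (toG V : GL (Fin 3) F) := by
    refine isConj_iff.2 ⟨⟨E0, E1, h01, h10⟩ * gg * ⟨E1, E0, h10, h01⟩, ?_⟩
    rw [mul_inv_eq_iff_eq_mul]
    refine Units.ext ?_
    show E0 * (gg : Matrix (Fin 3) (Fin 3) F) * E1 * mat u =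
      mat V * (E0 * (gg : Matrix (Fin 3) (Fin 3) F) * E1)
    calc E0 * (gg : Matrix (Fin 3) (Fin 3) F) * E1 * mat u
        = E0 * ((gg : Matrix (Fin 3) (Fin 3) F) * L u) * E1 := by
          rw [hLm]; simp only [Matrix.mul_assoc, h01, Matrix.mul_one]
      _ = E0 * (L V * (gg : Matrix (Fin 3) (Fin 3) F)) * E1 := by rw [hgg]
      _ = _ := by
          rw [hLm]
          simp only [← Matrix.mul_assoc, h01, Matrix.one_mul]
  obtain ⟨c, hc⟩ := isConj_iff.1 (CfsgLib.IsomConj.GU_isConj_of_similar hF (toG u) (toG V) hconj)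
  rw [mul_inv_eq_iff_eq_mul] at hc
  set M : Matrix (Fin 3) (Fin 3) F := ((c : GL (Fin 3) F) : Matrix (Fin 3) (Fin 3) F) with hM
  have hMu : M * mat u = mat V * M :=
    congrArg (fun g : Cfsg.GU 3 F q => ((g : GL (Fin 3) F) : Matrix (Fin 3) (Fin 3) F)) hc
  set δ := M.det with hδ
  have hδ1 : δ * C.σ δ = 1 := by
    rw [C.hσ, ← pow_succ']; exact CfsgLib.UnitaryEmbed.gu_det_norm C.σ C.hσ c
  -- transport to the frame
  obtain ⟨H, hH⟩ : ∃ H, H = E1 * M * E0 := ⟨_, rfl⟩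
  have hHd : H.det = δ := by
    have : E1.det * E0.det = 1 := by rw [← det_mul, h10, det_one]
    rw [hH, det_mul, det_mul, hδ]; linear_combination M.det * this
  have hHu : H * L u = L V * H := by
    calc H * L u = E1 * (M * mat u) * E0 := by
          rw [hH, hLm]
          simp only [Matrix.mul_assoc]
          rw [← Matrix.mul_assoc E0 E1, h01, Matrix.one_mul]
      _ = E1 * (mat V * M) * E0 := by rw [hMu]
      _ = _ := by
          rw [hH, hLm]
          simp only [Matrix.mul_assoc]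
          rw [← Matrix.mul_assoc E0 E1, h01, Matrix.one_mul]
  obtain ⟨co, hco⟩ : ∃ co, Dv *ᵥ co = H *ᵥ ![1, 0, 0] := ⟨Dv⁻¹ *ᵥ (H *ᵥ ![1, 0, 0]), by
    rw [mulVec_mulVec, Matrix.mul_nonsing_inv _ (isUnit_iff_ne_zero.2 hdv0), one_mulVec]⟩
  rw [hDv, colMat_mulVec] at hco
  have hA : δ * Du.det = (co 0 + co 1 + co 2) ^ 3 * Dv.det := by
    have e : H * Du = Dv * !![co 0, co 2, co 1 + 3 * co 2;
        co 1, co 0 - 3 * co 2, co 2 - 3 * (co 1 + 3 * co 2);
        co 2, co 1 + 3 * co 2, co 0 - 3 * co 2 + 3 * (co 1 + 3 * co 2)] := by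
      rw [hDu, mul_colMat, ← u1, ← u0, mulVec_mulVec _ H (L u), mulVec_mulVec _ H (L u), hHu,
        ← mulVec_mulVec, ← mulVec_mulVec, mulVec_mulVec _ H (L u), hHu, ← mulVec_mulVec, ← hco]
      simp only [mulVec_add, mulVec_smul, v0', v1', v2']
      ext i j
      fin_cases i <;> fin_cases j <;>
        simp [hDv, colMat, Matrix.mul_apply, Fin.sum_univ_three, Matrix.vecHead, Matrix.vecTail] <;>
        ring
    have := congrArg Matrix.det e
    rw [det_mul, det_mul, hHd] at this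
    rw [this]
    simp [det_fin_three]
    ring
  set S := co 0 + co 1 + co 2 with hS
  have hR : C.σ (l * (z * C.σ z)) = -(l * (z * C.σ z)) := C.trace_zero_mul P.hl (C.norm_fixed z)
  obtain ⟨A, hAdef⟩ : ∃ A, A = S * ((a - 1) / a) := ⟨_, rfl⟩
  have hδA : δ = A ^ 3 / (l * (z * C.σ z)) := by
    have h1 : Dv.det = -(z * (a - 1) ^ 3) / (l * a ^ 3) := by
      rw [← hdv, mul_div_cancel_right₀ _ (mul_ne_zero P.hl0 (pow_ne_zero 3 ha0))]
    rw [hdu, h1] at hA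
    have hz0 := P.hz
    have hl0 := P.hl0
    rw [hAdef, eq_div_iff (mul_ne_zero hl0 hz2), mul_pow, div_pow]
    have hA' : δ * (z * (z * C.σ z)) = S ^ 3 * (z * (a - 1) ^ 3) / (l * a ^ 3) := by
      linear_combination -hA
    refine mul_right_cancel₀ hz0 ?_
    calc δ * (l * (z * C.σ z)) * z = δ * (z * (z * C.σ z)) * l := by ring
      _ = _ := by rw [hA']; field_simp
  have hA0 : A ≠ 0 := by
    intro h
    rw [h, zero_pow three_ne_zero, zero_div] at hδA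
    rw [hδA, zero_mul] at hδ1
    exact zero_ne_one hδ1
  have hσA : C.σ A ≠ 0 := (map_ne_zero C.σ).2 hA0
  have hR0 : l * (z * C.σ z) ≠ 0 := mul_ne_zero P.hl0 hz2
  have hδσ : C.σ δ = -(C.σ A ^ 3) / (l * (z * C.σ z)) := by
    rw [hδA, map_div₀, map_pow, hR, div_neg, neg_div]
  have hδ0 : δ ≠ 0 := left_ne_zero_of_mul_eq_one hδ1
  set μ := -(A / (C.σ A * δ)) with hμ
  have hμN : μ * C.σ μ = 1 := by
    have hσδ : C.σ δ = δ⁻¹ := eq_inv_of_mul_eq_one_right hδ1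
    rw [hμ, map_neg, map_div₀, map_mul, C.hσ2, hσδ]
    field_simp
  have hμd : μ ^ 3 * δ = 1 := by
    have hl0 := P.hl0
    have hz0 := P.hz
    have hσz : C.σ z ≠ 0 := (map_ne_zero C.σ).2 P.hz
    have e : δ ^ 2 * C.σ A ^ 3 = -A ^ 3 := by
      have h1 : δ * C.σ A ^ 3 = -(l * (z * C.σ z)) * (δ * C.σ δ) := by
        rw [hδσ]; field_simp
      rw [hδ1, mul_one] at h1
      rw [sq, mul_assoc, h1, hδA]
      field_simp
    rw [hμ]
    field_simp
    linear_combination -e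
  have hdet : (μ • M).det = 1 := by
    rw [det_smul, Fintype.card_fin, ← hδ, hμd]
  have hmem : (⟨μ • M, hdet⟩ : Matrix.SpecialLinearGroup (Fin 3) F) ∈ Cfsg.SU 3 F q := by
    intro x y
    show Cfsg.hermForm 3 F q ((μ • M) *ᵥ x) ((μ • M) *ᵥ y) = _
    rw [smul_mulVec, smul_mulVec, C.smul_left, C.smul_right, ← mul_assoc, hμN, one_mul]
    exact c.2 x y
  refine ⟨⟨_, hmem⟩, mul_inv_eq_iff_eq_mul.2 ?_⟩
  refine Subtype.ext (Subtype.ext ?_)
  show μ • M * mat u = mat V * (μ • M)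
  rw [Matrix.smul_mul, hMu, Matrix.mul_smul]

/-- `t` and `D` lie in a subgroup with `u` and `g u`. -/
theorem parts_mem (hF : Fintype.card F = q ^ 2) (P : Data C a l z s)
    {G : Subgroup ↥(Cfsg.SU 3 F q)} (hu : R.low z s ∈ G) (hv : R.gEl a l * R.low z s ∈ G) :
    C.tm (R.E ![1, 0, 0]) l ∈ G ∧ R.hom a ∈ G := by
  have hg : R.gEl a l ∈ G := (G.mul_mem_cancel_right hu).1 hv
  have ht : C.tm (R.E ![1, 0, 0]) l ∈ G := by rw [← R.gEl_pow hF P.ha P.hl]; exact pow_mem hg _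
  exact ⟨ht, (G.mul_mem_cancel_right ht).1 hg⟩

/-- All transvections at `f` and a transvection at `e` give everything. -/
theorem all_of_f (hF : Fintype.card F = q ^ 2) (P : Data C a l z s)
    {G : Subgroup ↥(Cfsg.SU 3 F q)} (hu : R.low z s ∈ G) (ht : C.tm (R.E ![1, 0, 0]) l ∈ G)
    (hf : ∀ c, C.σ c = -c → C.tm (R.E ![0, 0, 1]) c ∈ G) :
    ∀ v, Cfsg.hermForm 3 F q v v = 0 → v ∈ C.Wset G := by
  have hstab : ∀ (g : ↥(Cfsg.SU 3 F q)), g ∈ G → ∀ v ∈ C.Wset G, mat g *ᵥ v ∈ C.Wset G := by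
    intro g hg v hv
    refine ⟨by rw [form_mulVec, hv.1], fun c hc => ?_⟩
    rw [← C.conj_tm _ hv.1 hc]
    exact mul_mem (mul_mem hg (hv.2 c hc)) (inv_mem hg)
  have hfW : R.E ![0, 0, 1] ∈ C.Wset G := ⟨by rw [R.E_form]; simp, hf⟩
  have h1 := hstab _ ht _ hfW
  rw [R.tme_apply P.hl, zero_add, mul_one] at h1
  have h2 := hstab _ hu _ h1
  rw [R.low_apply P.hs] at h2
  refine all_centres_three hF C hfW h1 h2 ?_ ?_
  · rw [R.E_form]
    simpa using P.hl0
  · intro hmem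
    obtain ⟨p, r, hpr⟩ := Submodule.mem_span_pair.1 hmem
    rw [← map_smul, ← map_smul, ← map_add] at hpr
    have := congrFun (R.E.injective hpr) 1
    simp [P.hz, P.hl0] at this

/-- The generic case: `a⁻³` generates the field. -/
theorem generic (hF : Fintype.card F = q ^ 2) (hne : C.σ ≠ RingHom.id F) (P : Data C a l z s)
    (hgen : ∀ K : Subfield F, a ^ 3 ∈ K → K = ⊤)
    {G : Subgroup ↥(Cfsg.SU 3 F q)} (hu : R.low z s ∈ G) (hv : R.gEl a l * R.low z s ∈ G) :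
    ∀ v, Cfsg.hermForm 3 F q v v = 0 → v ∈ C.Wset G := by
  obtain ⟨ht, hD⟩ := R.parts_mem hF P hu hv
  have hP : ∀ ζ σ', σ' + C.σ σ' = -(ζ * C.σ ζ) →
      C.σ σ' + C.σ (C.σ σ') = -(-ζ * C.σ (-ζ)) ∧ (R.low ζ σ')⁻¹ = R.low (-ζ) (C.σ σ') := by
    intro ζ σ' h
    have h' : C.σ σ' + C.σ (C.σ σ') = -(-ζ * C.σ (-ζ)) := by
      rw [C.hσ2, map_neg, neg_mul_neg, ← h, add_comm]
    refine ⟨h', inv_eq_of_mul_eq_one_right (R.ext3 fun x y w => ?_)⟩
    rw [mulVec_mul, R.low_apply h', R.low_apply h, one_act]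
    congr 1
    refine vec_eq rfl (by ring) ?_
    rw [map_neg]
    linear_combination x * h
  let S : AddSubgroup F :=
    { carrier := {x | ∃ σ', σ' + C.σ σ' = -(z * x * C.σ (z * x)) ∧ R.low (z * x) σ' ∈ G}
      zero_mem' := ⟨0, by simp, by
        rw [mul_zero, show R.low (0 : F) (0 : F) = 1 from R.ext3 fun x y w => by
          rw [R.low_apply (by simp), one_act]; simp]
        exact G.one_mem⟩
      add_mem' := fun {x y} hx hy => by
        obtain ⟨s₁, h₁, m₁⟩ := hx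
        obtain ⟨s₂, h₂, m₂⟩ := hy
        obtain ⟨h, e⟩ := R.low_mul h₁ h₂
        rw [← mul_add] at h e
        exact ⟨_, h, e ▸ mul_mem m₁ m₂⟩
      neg_mem' := fun {x} hx => by
        obtain ⟨s₁, h₁, m₁⟩ := hx
        obtain ⟨h, e⟩ := hP _ _ h₁
        rw [show -(z * x) = z * -x by ring] at h e
        exact ⟨_, h, e ▸ inv_mem m₁⟩ }
  have hS1 : (1 : F) ∈ S := ⟨s, by rw [mul_one]; exact P.hs, by rwa [mul_one]⟩
  have hSb : ∀ x ∈ S, (a⁻¹) ^ 3 * x ∈ S := by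
    rintro x ⟨s₁, h₁, m₁⟩
    obtain ⟨h, e⟩ := R.hom_low P.ha h₁
    rw [show z * x * (a⁻¹) ^ 3 = z * ((a⁻¹) ^ 3 * x) by ring] at h e
    exact ⟨s₁, h, e ▸ mul_mem (mul_mem hD m₁) (inv_mem hD)⟩
  let K : Subfield F :=
    { carrier := {r | ∀ x ∈ S, r * x ∈ S}
      one_mem' := fun x hx => by rwa [one_mul]
      zero_mem' := fun x _ => by rw [zero_mul]; exact S.zero_mem
      mul_mem' := fun {r r'} hr hr' x hx => by rw [mul_assoc]; exact hr _ (hr' x hx)
      add_mem' := fun {r r'} hr hr' x hx => by rw [add_mul]; exact S.add_mem (hr x hx) (hr' x hx)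
      neg_mem' := fun {r} hr x hx => by rw [neg_mul]; exact S.neg_mem (hr x hx)
      inv_mem' := fun r hr => by
        show ∀ x ∈ S, r⁻¹ * x ∈ S
        have hpow : ∀ k : ℕ, ∀ x ∈ S, r ^ k * x ∈ S := by
          intro k
          induction k with
          | zero => intro x hx; rwa [pow_zero, one_mul]
          | succ k ih => intro x hx; rw [pow_succ, mul_assoc]; exact ih _ (hr x hx)
        by_cases hr0 : r = 0
        · intro x _; rw [hr0, _root_.inv_zero, zero_mul]; exact S.zero_mem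
        have hc : 2 ≤ Fintype.card F := Fintype.one_lt_card
        have e : r⁻¹ = r ^ (Fintype.card F - 2) := by
          refine inv_eq_of_mul_eq_one_right ?_
          rw [← pow_succ', show Fintype.card F - 2 + 1 = Fintype.card F - 1 by omega,
            FiniteField.pow_card_sub_one_eq_one _ hr0]
        rw [e]
        exact hpow _ }
  have hK : K = ⊤ := by
    refine hgen K ?_
    have hb : (a⁻¹) ^ 3 ∈ K := hSb
    have := K.inv_mem hb
    rwa [inv_pow, inv_inv] at this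
  have hall : ∀ x, x ∈ S := fun x => by
    have hx : x ∈ K := by rw [hK]; trivial
    simpa using hx 1 hS1
  refine R.all_of_f hF P hu ht fun c hc => ?_
  obtain ⟨m, hm⟩ : ∃ m, m + C.σ m ≠ 0 := by
    by_contra hne'
    push Not at hne'
    have h1 := hne' 1
    rw [map_one] at h1
    apply hne
    refine RingHom.ext fun x => ?_
    rw [RingHom.id_apply]
    linear_combination hne' x - x * h1
  have hN : z * C.σ z ≠ 0 := mul_ne_zero P.hz ((map_ne_zero C.σ).2 P.hz)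
  set k := c / (z * C.σ z) with hk
  have hkσ : C.σ k = -k := by rw [hk, map_div₀, hc, C.norm_fixed, neg_div]
  set y := k * m / (m + C.σ m) with hy
  have hyk : y - C.σ y = k := by
    rw [hy, map_div₀, map_mul, map_add, C.hσ2, hkσ, add_comm (C.σ m), ← sub_div,
      show k * m - -k * C.σ m = k * (m + C.σ m) by ring, mul_div_assoc, div_self hm, mul_one]
  obtain ⟨s₁, h₁, m₁⟩ := hall y
  obtain ⟨s₂, h₂, m₂⟩ := hall 1
  have e := R.low_comm h₁ h₂
  rw [← mul_inv_eq_iff_eq_mul,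
    show C.σ (z * 1) * (z * y) - C.σ (z * y) * (z * 1) = c by
      rw [map_mul, map_mul, map_one]
      have : k * (z * C.σ z) = c := div_mul_cancel₀ _ hN
      linear_combination (z * C.σ z) * hyk + this] at e
  rw [← e]
  exact mul_mem (mul_mem m₁ m₂) (inv_mem (mul_mem m₂ m₁))

/-- `q = 5`. -/
theorem five (hF : Fintype.card F = q ^ 2) (hq : q = 5) (P : Data C a l z s)
    {G : Subgroup ↥(Cfsg.SU 3 F q)} (hu : R.low z s ∈ G) (hv : R.gEl a l * R.low z s ∈ G) :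
    ∀ v, Cfsg.hermForm 3 F q v v = 0 → v ∈ C.Wset G := by
  obtain ⟨ht, -⟩ := R.parts_mem hF P hu hv
  have h5 : (5 : F) = 0 := by
    have := Nat.cast_card_eq_zero F
    rw [hF, hq] at this
    push_cast at this
    exact pow_eq_zero_iff (n := 2) two_ne_zero |>.1 (by linear_combination this)
  have heiso : Cfsg.hermForm 3 F q (R.E ![1, 0, 0]) (R.E ![1, 0, 0]) = 0 := by rw [R.E_form]; simp
  have he : R.E ![1, 0, 0] ∈ C.Wset G := by
    refine ⟨heiso, fun c hc => ?_⟩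
    have hk : C.σ (c / l) = c / l := by rw [map_div₀, hc, P.hl, neg_div_neg_eq]
    have hroot : (c / l) * (c / l - 1) * (c / l - 2) * (c / l - 3) * (c / l - 4) = 0 := by
      rw [C.hσ, hq] at hk
      linear_combination hk + (-2 * (c / l) ^ 4 + 7 * (c / l) ^ 3 - 10 * (c / l) ^ 2 + 5 * (c / l)) * h5
    have hmul : ∀ k : ℕ, C.tm (R.E ![1, 0, 0]) ((k : F) * l) ∈ G := by
      intro k
      induction k with
      | zero => rw [Nat.cast_zero, zero_mul, C.tm_zero heiso]; exact G.one_mem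
      | succ k ih =>
        rw [Nat.cast_succ, add_mul, one_mul,
          ← C.tm_mul heiso (by rw [map_mul, map_natCast, P.hl, mul_neg]) P.hl]
        exact mul_mem ih ht
    have hc' : ∃ k : ℕ, (k : F) = c / l := by
      simp only [mul_eq_zero, sub_eq_zero] at hroot
      rcases hroot with (((h | h) | h) | h) | h
      exacts [⟨0, by simp [h]⟩, ⟨1, by simp [h]⟩, ⟨2, by simp [h]⟩, ⟨3, by simp [h]⟩, ⟨4, by simp [h]⟩]
    obtain ⟨k, hk'⟩ := hc'
    have := hmul k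
    rwa [hk', div_mul_cancel₀ _ P.hl0] at this
  have hstab : ∀ v ∈ C.Wset G, mat (R.low z s) *ᵥ v ∈ C.Wset G := by
    intro v hv'
    refine ⟨by rw [form_mulVec, hv'.1], fun c hc => ?_⟩
    rw [← C.conj_tm _ hv'.1 hc]
    exact mul_mem (mul_mem hu (hv'.2 c hc)) (inv_mem hu)
  have h1 := hstab _ he
  have h2 := hstab _ h1
  rw [R.low_apply P.hs] at h1
  rw [R.low_apply P.hs, R.low_apply P.hs] at h2
  have hN : z * C.σ z ≠ 0 := mul_ne_zero P.hz ((map_ne_zero C.σ).2 P.hz)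
  refine all_centres_three hF C he h1 h2 ?_ ?_
  · rw [R.E_form]
    simp
    intro h
    apply hN
    have hs := P.hs
    rw [h, map_zero, add_zero] at hs
    linear_combination hs
  · intro hmem
    obtain ⟨p, r, hpr⟩ := Submodule.mem_span_pair.1 hmem
    rw [← map_smul, ← map_smul, ← map_add] at hpr
    have h1 := congrFun (R.E.injective hpr) 1
    have h2 := congrFun (R.E.injective hpr) 2
    simp at h1 h2
    have hr : r = 2 := mul_left_cancel₀ P.hz (by linear_combination h1)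
    apply hN
    linear_combination h2 - s * hr

/-- `q = 8`. -/
theorem eight (hF : Fintype.card F = q ^ 2) (hq : q = 8)
    (h9 : a ^ 6 + a ^ 3 + 1 = 0) (hzv : z = a ^ 5 + a ^ 4 + 1) (hsv : s = a ^ 8 + a ^ 6)
    (P : Data C a 1 z s) {G : Subgroup ↥(Cfsg.SU 3 F q)} (hu : R.low z s ∈ G)
    (hv : R.gEl a 1 * R.low z s ∈ G) :
    ∀ v, Cfsg.hermForm 3 F q v v = 0 → v ∈ C.Wset G := by
  obtain ⟨ht, hD⟩ := R.parts_mem hF P hu hv
  have h2 : (2 : F) = 0 := by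
    have := Nat.cast_card_eq_zero F
    rw [hF, hq] at this
    push_cast at this
    exact pow_eq_zero_iff (n := 6) (by norm_num) |>.1 (by linear_combination this)
  have : CharP F 2 := CharTwo.of_one_ne_zero_of_two_eq_zero one_ne_zero h2
  have hone : C.σ (1 : F) = -1 := by rw [map_one, CharTwo.neg_eq]
  have ha0 : a ≠ 0 := left_ne_zero_of_mul_eq_one P.ha
  have hai : a⁻¹ = a ^ 8 := inv_eq_of_mul_eq_one_right (by linear_combination (a ^ 3 - 1) * h9)
  have hzσ : C.σ z = z := by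
    rw [C.hσ, hq, hzv, show (8 : ℕ) = 2 ^ 3 from rfl, add_pow_char_pow, add_pow_char_pow, one_pow,
      ← pow_mul, ← pow_mul]
    linear_combination (a ^ 34 - a ^ 31 + a ^ 26 + a ^ 25 - a ^ 23 - a ^ 22 + a ^ 17 + a ^ 16 - a ^ 14 -
      a ^ 13 + a ^ 8 + a ^ 7 - a ^ 5 - a ^ 4) * h9
  set N := a + a ^ 8 + 1 with hN
  have hzN : z * C.σ z = N := by
    rw [hzσ, hzv, hN]
    linear_combination (a ^ 4 + 2 * a ^ 3 - a - 2) * h9 + (a ^ 5 + a ^ 4 + 1) * h2
  have hw0 : mat ((R.low z s)⁻¹ * R.hom a * R.low z s * R.hom a * R.low z s *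
      C.tm (R.E ![1, 0, 0]) 1) *ᵥ R.E ![0, 0, 1] = R.E ![a ^ 2, 0, a ^ 4 + a ^ 2 + 1] := by
    simp only [mulVec_mul]
    rw [R.tme_apply hone, R.low_apply P.hs, R.hom_apply P.ha, R.low_apply P.hs, R.hom_apply P.ha]
    refine inv_fix ?_
    rw [R.low_apply P.hs]
    congr 1
    refine vec_eq ?_ ?_ ?_
    · ring
    · rw [hai]
      linear_combination (-z * (a ^ 26 + a ^ 23 - a ^ 20 - a ^ 17) +
        z * (2 * a ^ 23 - a ^ 20 - 2 * a ^ 17 + a ^ 14 - a ^ 11 + a ^ 5 - a ^ 2)) * h9 + (z * a ^ 2) * h2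
    · rw [hai, hzσ, hsv, hzv]
      linear_combination (a ^ 21 + 2 * a ^ 20 + a ^ 19 - a ^ 18 - 2 * a ^ 17 + a ^ 16 + 2 * a ^ 15 -
        2 * a ^ 13 - a ^ 12 + 3 * a ^ 11 + a ^ 10 - a ^ 9 - 3 * a ^ 8 + a ^ 7 + 2 * a ^ 6 - 3 * a ^ 4 -
        a ^ 3 + 2 * a ^ 2 + 2 * a - 1) * h9 + (-a ^ 5 + a ^ 4 + a ^ 3 - a ^ 2 - a + 1) * h2
  have hM : mat (C.tm (R.E ![1, 0, 0]) 1 * (R.low z s * R.low z s)) *ᵥ
      R.E ![a ^ 2, 0, a ^ 4 + a ^ 2 + 1] = z • R.E ![a ^ 2, 0, a ^ 4 + a ^ 2 + 1] := by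
    simp only [mulVec_mul]
    rw [R.low_apply P.hs, R.low_apply P.hs, R.tme_apply hone, ← map_smul, smul_vec]
    congr 1
    refine vec_eq ?_ ?_ ?_
    · rw [hzσ, hsv, hzv]
      linear_combination (-a ^ 6 - 2 * a ^ 5 + a ^ 4 + a ^ 3 + 4 * a ^ 2 - 4 * a - 3) * h9 +
        (-a ^ 5 + 2 * a ^ 4 + a ^ 3 - 2 * a ^ 2 + 2 * a + 2) * h2
    · linear_combination (z * a ^ 2) * h2
    · rw [hzσ, hsv, hzv]
      linear_combination (-a ^ 6 - 2 * a ^ 5 + a ^ 4 + 3 * a ^ 2 - 4 * a - 2) * h9 +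
        (-a ^ 5 + a ^ 4 + a ^ 3 - 2 * a ^ 2 + 2 * a + 1) * h2
  set Q := (R.low z s)⁻¹ * R.hom a * R.low z s * R.hom a * R.low z s * C.tm (R.E ![1, 0, 0]) 1
    with hQ
  have hQG : Q ∈ G :=
    mul_mem (mul_mem (mul_mem (mul_mem (mul_mem (inv_mem hu) hD) hu) hD) hu) ht
  set W := Q⁻¹ * (C.tm (R.E ![1, 0, 0]) 1 * (R.low z s * R.low z s)) * Q with hWdef
  have hWG : W ∈ G := mul_mem (mul_mem (inv_mem hQG) (mul_mem ht (mul_mem hu hu))) hQG
  have hWf : mat W *ᵥ R.E ![0, 0, 1] = z • R.E ![0, 0, 1] := by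
    rw [hWdef, mulVec_mul, mulVec_mul, hw0, hM, mulVec_smul, inv_fix hw0]
  have hfiso : Cfsg.hermForm 3 F q (R.E ![0, 0, 1]) (R.E ![0, 0, 1]) = 0 := by rw [R.E_form]; simp
  have hNσ : C.σ N = N := by rw [← hzN]; exact C.norm_fixed z
  have hN0 : N ≠ 0 := by rw [← hzN]; exact mul_ne_zero P.hz ((map_ne_zero C.σ).2 P.hz)
  have hstep : ∀ x, C.σ x = x → C.tm (R.E ![0, 0, 1]) x ∈ G →
      C.tm (R.E ![0, 0, 1]) (x * N) ∈ G := by
    intro x hx h
    have hx' : C.σ x = -x := by rw [hx, CharTwo.neg_eq]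
    have := mul_mem (mul_mem hWG h) (inv_mem hWG)
    rwa [C.conj_tm _ hfiso hx', hWf, C.tm_smul z hfiso hx', hzN] at this
  have hbase : C.tm (R.E ![0, 0, 1]) N ∈ G := by
    have e : R.low z s * R.low z s = C.tm (R.E ![0, 0, 1]) N := by
      refine R.ext3 fun x y w => ?_
      rw [mulVec_mul, R.low_apply P.hs, R.low_apply P.hs,
        R.tmf_apply (by rw [hNσ, CharTwo.neg_eq]), hzσ]
      congr 1
      refine vec_eq rfl ?_ ?_
      · linear_combination (z * x) * h2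
      · rw [← hzN, hzσ]; linear_combination (s * x - z * y - z * z * x) * h2
    rw [← e]
    exact mul_mem hu hu
  let A : AddSubgroup F :=
    { carrier := {x | C.σ x = x ∧ C.tm (R.E ![0, 0, 1]) (x * N) ∈ G}
      zero_mem' := ⟨map_zero _, by rw [zero_mul, C.tm_zero hfiso]; exact G.one_mem⟩
      add_mem' := fun {x y} hx hy => ⟨by rw [map_add, hx.1, hy.1], by
        rw [add_mul, ← C.tm_mul hfiso (by rw [map_mul, hx.1, hNσ, CharTwo.neg_eq])
          (by rw [map_mul, hy.1, hNσ, CharTwo.neg_eq])]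
        exact mul_mem hx.2 hy.2⟩
      neg_mem' := fun {x} hx => by rw [CharTwo.neg_eq]; exact hx }
  have hA1 : (1 : F) ∈ A := ⟨map_one _, by rwa [one_mul]⟩
  have hAst : ∀ c ∈ A, c * N ∈ A := by
    rintro c ⟨hc, hcm⟩
    exact ⟨by rw [map_mul, hc, hNσ], hstep _ (by rw [map_mul, hc, hNσ]) hcm⟩
  obtain ⟨w, hwσ, hw0', hw⟩ := exists_fixed_generator hF C
  have hw7 : w ^ 7 = 1 := by
    have e : w ^ 8 = w := by rw [← hq, ← C.hσ, hwσ]
    exact mul_left_cancel₀ hw0' (by rw [← pow_succ', e, mul_one])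
  obtain ⟨k, hk⟩ := hw N hNσ hN0
  have hN1 : N ≠ 1 := by
    intro h
    rw [hN] at h
    apply P.ha2
    linear_combination a * h - (a ^ 3 - 1) * h9 - h2
  have hwA : ∃ j : ℕ, N ^ j = w := by
    have e : w ^ (k % 7) = N := by
      rw [← hk]
      conv_rhs => rw [← Nat.mod_add_div k 7, pow_add, pow_mul, hw7, one_pow, mul_one]
    have h7 : k % 7 < 7 := Nat.mod_lt _ (by norm_num)
    have hk0 : k % 7 ≠ 0 := fun h => hN1 (by rw [← e, h, pow_zero])
    have key : ∀ i j : ℕ, (i * j) % 7 = 1 → w ^ i = N → N ^ j = w := by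
      intro i j hij he
      rw [← he, ← pow_mul, ← Nat.mod_add_div (i * j) 7, pow_add, pow_mul, hw7, one_pow, mul_one, hij,
        pow_one]
    interval_cases hkm : k % 7
    · exact absurd rfl hk0
    exacts [⟨1, key 1 1 rfl e⟩, ⟨4, key 2 4 rfl e⟩, ⟨5, key 3 5 rfl e⟩, ⟨2, key 4 2 rfl e⟩,
      ⟨3, key 5 3 rfl e⟩, ⟨6, key 6 6 rfl e⟩]
  obtain ⟨j, hj⟩ := hwA
  have hApow : ∀ i : ℕ, ∀ c ∈ A, N ^ i * c ∈ A := by
    intro i
    induction i with
    | zero => intro c hc; rwa [pow_zero, one_mul]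
    | succ i ih =>
      intro c hc
      rw [pow_succ', mul_assoc, mul_comm N]
      exact hAst _ (ih c hc)
  refine R.all_of_f hF P hu ht fun c hc => ?_
  obtain ⟨-, h⟩ := fixed_subset C hw hA1 (fun x hx => by
    rw [mul_assoc, ← hj]; exact hApow _ _ (hApow _ _ hx)) (c / N)
    (by rw [map_div₀, hc, hNσ, CharTwo.neg_eq])
  rwa [div_mul_cancel₀ _ hN0] at h

end Frame

theorem no_small_cube_subfield : ∀ Q ∈ Finset.range 9, ∀ d ∈ Finset.range 10, ∀ q ∈ Finset.range 27,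
    ¬(q ^ 2 = Q ^ d ∧ 3 ≤ d ∧ 2 ≤ Q ∧ q ≠ 8 ∧ q + 1 ∣ 3 * (Q - 1)) := by decide

/-- `a³` generates `F` when `a` has order `q + 1` and `q ∉ {5, 8}`. -/
theorem cube_generates (hF : Fintype.card F = q ^ 2) (hq : 3 ≤ q) (h5 : q ≠ 5) (h8 : q ≠ 8)
    {a : F} (ha : ∀ k : ℕ, a ^ k = 1 → q + 1 ∣ k) (ha0 : a ≠ 0) (K : Subfield F)
    (hK : a ^ 3 ∈ K) : K = ⊤ := by
  classical
  set Q := Fintype.card K with hQ
  have hQ2 : 2 ≤ Q := Fintype.one_lt_card
  have hd : q + 1 ∣ 3 * (Q - 1) := by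
    refine ha _ ?_
    have hk : (⟨a ^ 3, hK⟩ : K) ≠ 0 := fun h =>
      pow_ne_zero 3 ha0 (by simpa using congrArg Subtype.val h)
    have := congrArg Subtype.val (FiniteField.pow_card_sub_one_eq_one _ hk)
    rw [pow_mul]
    simpa using this
  have hcard : q ^ 2 = Q ^ Module.finrank K F := by
    rw [← hF, hQ]; exact Module.card_eq_pow_finrank
  set d := Module.finrank K F with hdd
  have hd0 : 0 < d := Module.finrank_pos
  rcases (show d = 1 ∨ d = 2 ∨ 3 ≤ d by omega) with h1 | h2 | h3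
  · rw [h1, pow_one] at hcard
    refine SetLike.coe_injective ?_
    have : (Set.univ : Set F) = (K : Set F) := by
      symm
      refine Set.eq_of_subset_of_card_le (Set.subset_univ _) ?_
      simp only [Fintype.card_setUniv, hF, hcard, hQ]
      exact le_of_eq (Fintype.card_congr (Equiv.refl K))
    simpa using this.symm
  · rw [h2] at hcard
    have hqQ : q = Q := Nat.pow_left_injective two_ne_zero hcard
    rw [← hqQ] at hd
    have : q + 1 ∣ 6 := by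
      have e : 3 * (q + 1) = 3 * (q - 1) + 6 := by omega
      have h6 : q + 1 ∣ 3 * (q - 1) + 6 := e ▸ dvd_mul_left (q + 1) 3
      exact (Nat.dvd_add_right hd).1 h6
    have hle := Nat.le_of_dvd (by norm_num) this
    have : q ≤ 5 := by omega
    interval_cases q <;> omega
  · have h3' : Q ^ 3 ≤ q ^ 2 := hcard ▸ Nat.pow_le_pow_right (by omega) h3
    have hle : q + 1 ≤ 3 * (Q - 1) := Nat.le_of_dvd (by omega) hd
    have hle3 : (q + 1) ^ 3 ≤ 27 * q ^ 2 := by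
      calc (q + 1) ^ 3 ≤ (3 * Q) ^ 3 := Nat.pow_le_pow_left (by omega) 3
        _ = 27 * Q ^ 3 := by ring
        _ ≤ 27 * q ^ 2 := Nat.mul_le_mul_left 27 h3'
    have hqb : q < 27 := by nlinarith
    have hQb : Q < 9 := by
      by_contra hQ9
      have h1 : 9 ^ 3 ≤ Q ^ 3 := Nat.pow_le_pow_left (by omega) 3
      have h2 : q ^ 2 ≤ 26 ^ 2 := Nat.pow_le_pow_left (by omega) 2
      omega
    have hdb : d < 10 := by
      by_contra hd10
      have h1 : 2 ^ 10 ≤ Q ^ d :=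
        (Nat.pow_le_pow_left hQ2 10).trans (Nat.pow_le_pow_right (by omega) (by omega))
      have h2 : q ^ 2 ≤ 26 ^ 2 := Nat.pow_le_pow_left (by omega) 2
      omega
    exact absurd ⟨hcard, h3, hQ2, h8, hd⟩ (no_small_cube_subfield Q (Finset.mem_range.2 hQb) d
      (Finset.mem_range.2 hdb) q (Finset.mem_range.2 hqb))

/-- `SU_3(q)`, `q ≥ 3`, is generated by two conjugate regular unipotent elements. -/
theorem two_conjugates_three (hF : Fintype.card F = q ^ 2) (hq : 3 ≤ q) :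
    ∃ u g : ↥(Cfsg.SU 3 F q), (IsNilpotent (mat u - 1) ∧ (mat u - 1) ^ 2 ≠ 0) ∧
      Subgroup.closure {u, g * u * g⁻¹} = ⊤ := by
  classical
  obtain ⟨C, hne⟩ := exists_conjugation hF
  obtain ⟨R⟩ := exists_frame hF C hne
  have h32 : ¬((3 : ℕ) = 3 ∧ q = 2) := by omega
  suffices h : ∃ a l z s, Data C a l z s ∧ ∀ G : Subgroup ↥(Cfsg.SU 3 F q), R.low z s ∈ G →
      R.gEl a l * R.low z s ∈ G → ∀ v, Cfsg.hermForm 3 F q v v = 0 → v ∈ C.Wset G by
    obtain ⟨a, l, z, s, P, hall⟩ := h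
    obtain ⟨g, hg⟩ := R.exists_conj_gu hF P
    have key : ∀ (k : ℕ) (x y w : F), (mat (R.low z s) - 1) ^ (k + 1) *ᵥ R.E ![x, y, w] =
        (mat (R.low z s) - 1) ^ k *ᵥ R.E ![0, z * x, s * x - C.σ z * y] := by
      intro k x y w
      rw [pow_succ, ← mulVec_mulVec, sub_mulVec, R.low_apply P.hs, one_mulVec, ← map_sub]
      congr 2
      ext i; fin_cases i <;> simp
    refine ⟨R.low z s, g, ⟨⟨3, ?_⟩, ?_⟩, ?_⟩
    · refine Matrix.ext_of_mulVec_single fun j => ?_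
      obtain ⟨x, hx⟩ := R.E.surjective (Pi.single j 1)
      rw [← hx, Frame.eta x, key, key, key, pow_zero, one_mulVec, zero_mulVec, ← map_zero R.E]
      congr 1
      ext i; fin_cases i <;> simp
    · intro h0
      have := key 1 1 0 0
      rw [h0, zero_mulVec, key 0, pow_zero, one_mulVec, ← map_zero R.E] at this
      have := congrFun (R.E.injective this) 2
      simp at this
      exact P.hz this
    · rw [hg]
      refine eq_top_of_tm hF C le_rfl h32 _ fun v c hv hc => ?_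
      exact (hall _ (Subgroup.subset_closure (by simp)) (Subgroup.subset_closure (by simp)) v hv).2 c hc
  -- an element of norm one and order `q + 1`
  obtain ⟨g, hg⟩ := IsCyclic.exists_generator (α := (powMonoidHom (q + 1) : Fˣ →* Fˣ).ker)
  have hord : orderOf g = q + 1 := by
    rw [orderOf_eq_card_of_forall_mem_zpowers hg, CfsgLib.ClassicalGroups.card_norm_one_units hF]
  set a : F := ((g : Fˣ) : F) with hadef
  have ha1 : a ^ (q + 1) = 1 := by
    have h1 : (g : Fˣ) ^ (q + 1) = 1 := g.2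
    rw [hadef, ← Units.val_pow_eq_pow_val, h1, Units.val_one]
  have haord : ∀ k : ℕ, a ^ k = 1 → q + 1 ∣ k := by
    intro k hk
    rw [← hord]
    refine orderOf_dvd_of_pow_eq_one (Subtype.ext (Units.ext ?_))
    simpa using hk
  have ha : a * C.σ a = 1 := by rw [C.hσ, ← pow_succ', ha1]
  have ha0 : a ≠ 0 := left_ne_zero_of_mul_eq_one ha
  have ha2 : a * a ≠ 1 := by
    intro h
    have := Nat.le_of_dvd (by norm_num) (haord 2 (by rw [sq, h]))
    omega
  by_cases h8 : q = 8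
  · have h9' : a ^ 9 = 1 := by rw [← ha1, h8]
    have h3 : a ^ 3 ≠ 1 := fun h => by
      have := Nat.le_of_dvd (by norm_num) (haord 3 h)
      omega
    have h9 : a ^ 6 + a ^ 3 + 1 = 0 := mul_left_cancel₀ (sub_ne_zero.2 h3) (by linear_combination h9')
    have h2 : (2 : F) = 0 := by
      have := Nat.cast_card_eq_zero F
      rw [hF, h8] at this
      push_cast at this
      exact pow_eq_zero_iff (n := 6) (by norm_num) |>.1 (by linear_combination this)
    have : CharP F 2 := CharTwo.of_one_ne_zero_of_two_eq_zero one_ne_zero h2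
    have hσ : ∀ k : ℕ, C.σ (a ^ k) = a ^ (8 * k) := fun k => by
      rw [C.hσ, h8, ← pow_mul, mul_comm]
    have P : Data C a 1 (a ^ 5 + a ^ 4 + 1) (a ^ 8 + a ^ 6) := by
      refine ⟨ha, ha2, by rw [map_one, CharTwo.neg_eq], one_ne_zero, ?_, ?_, ?_⟩
      · simp only [map_add, map_one, hσ]
        linear_combination (a ^ 58 - a ^ 55 + a ^ 49 - a ^ 46 + a ^ 42 + a ^ 40 + a ^ 38 - a ^ 37 -
          a ^ 36 - a ^ 35 + a ^ 34 + a ^ 33 + a ^ 31 + a ^ 30 + a ^ 29 - 2 * a ^ 28 - 2 * a ^ 27 +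
          a ^ 25 + a ^ 24 - a ^ 23 + a ^ 22 + a ^ 21 + a ^ 20 - 2 * a ^ 19 - 2 * a ^ 18 + a ^ 16 +
          a ^ 15 - a ^ 14 + a ^ 13 + a ^ 12 + a ^ 11 - 2 * a ^ 10 - 2 * a ^ 9 + a ^ 7 + a ^ 6 - a ^ 5 +
          a ^ 4 + a ^ 3 + 2 * a ^ 2 - 2 * a - 1) * h9 + (a ^ 4 - a ^ 2 + a + 1) * h2
      · intro h
        apply h3
        linear_combination ((a ^ 3 - 1) * (a ^ 4 + a ^ 2 + a)) * h +
          (-a ^ 6 - a ^ 5 - a ^ 4 + a ^ 2 + a + 3) * h9 + (-a ^ 3 - 2) * h2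
      · linear_combination (a ^ 5 + a ^ 3 - a ^ 2 - 1) * h9 + (a ^ 3 - a ^ 2 + 1) * h2
    exact ⟨a, 1, _, _, P, fun G hu hv => R.eight hF h8 h9 rfl rfl P hu hv⟩
  -- the general construction
  obtain ⟨m, hm⟩ : ∃ m, C.σ m ≠ m := by
    by_contra h
    push Not at h
    exact hne (RingHom.ext h)
  set l := m - C.σ m with hldef
  have hl : C.σ l = -l := C.trace_zero_sub_conj m
  have hl0 : l ≠ 0 := sub_ne_zero.2 (Ne.symm hm)
  set s := (3 * a ^ 2 - 2 * a ^ 3 - 1) / (a ^ 3 * l) with hs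
  have hσa : C.σ a = a⁻¹ := eq_inv_of_mul_eq_one_right ha
  have htr : s + C.σ s ≠ 0 := by
    have e : (s + C.σ s) * (a ^ 3 * l) = -(1 - a ^ 2) ^ 3 + (0 : F) := by
      simp only [hs, map_div₀, map_sub, map_mul, map_pow, map_ofNat, map_one, hσa, hl]
      field_simp
      ring
    intro h
    rw [h, zero_mul, add_zero, eq_comm, neg_eq_zero, pow_eq_zero_iff three_ne_zero, sub_eq_zero] at e
    exact ha2 (by rw [← sq]; exact e.symm)
  obtain ⟨z, hz0, hzN⟩ := CfsgLib.ClassicalGroups.exists_norm_eq hF (c := -(s + C.σ s))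
    (by rw [← C.hσ, map_neg, map_add, C.hσ2, add_comm]) (neg_ne_zero.2 htr)
  have P : Data C a l z s := ⟨ha, ha2, hl, hl0, by
    rw [C.hσ z, ← pow_succ', hzN, neg_neg], hz0, by rw [hs]; field_simp⟩
  refine ⟨a, l, z, s, P, fun G hu hv => ?_⟩
  by_cases h5 : q = 5
  · exact R.five hF h5 P hu hv
  · exact R.generic hF hne P (cube_generates hF hq h5 h8 haord ha0) hu hv

end CfsgLib.RegUnipU
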