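import Cfsg.Agent.Lib.RegUnipU.Params
import Cfsg.Agent.Lib.RegUnip.SpElem

/-!
`SU_{2r+1}(q)`, `r ≥ 2`, is generated by three conjugates of a regular unipotent element, given that it
is perfect and generated by its transvections.
-/

set_option autoImplicit false

namespace CfsgLib.RegUnipU

open Matrix
open CfsgLib.RegUnip.SpGen (eq_top_of_normalized)

variable {F : Type*} [Field F] [Fintype F] {q r : ℕ} {κ γ ε w : F} {C : Conj F q}

theorem shift_mul_conj {G : Type*} [Group G] (t U : G) :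
    t * (U * t⁻¹ * U⁻¹) * U = t * U * t⁻¹ := by group

theorem conj_mul_three {G : Type*} [Group G] (t d U : G) :
    t * (d * U) * t⁻¹ = (t * d * t⁻¹) * (t * U * t⁻¹) := by group

namespace Model

variable (M : Model C r κ)

theorem gens_eq_top (hr : 2 ≤ r) (P : Params C κ γ ε w)
    (hgen : ∀ H : Subgroup ↥(Cfsg.SU (2 * r + 1) F q), (∀ v c, Cfsg.hermForm (2 * r + 1) F q v v = 0 →
      C.σ c = -c → C.tm v c ∈ H) → H = ⊤) :
    Subgroup.closure {M.U, C.tm (M.a 0) γ, C.rt (M.a 0) (M.a 1) ε} = ⊤ := by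
  set K := Subgroup.closure
    ({M.U, C.tm (M.a 0) γ, C.rt (M.a 0) (M.a 1) ε} : Set ↥(Cfsg.SU (2 * r + 1) F q)) with hK
  have hU : M.U ∈ K := Subgroup.subset_closure (by simp)
  have ht : C.tm (M.a 0) γ ∈ K := Subgroup.subset_closure (by simp)
  have hs : C.rt (M.a 0) (M.a 1) ε ∈ K := Subgroup.subset_closure (by simp)
  refine hgen K fun v c hv hc => (M.all_centres hr P.hγ P.hγ0 ?_ hU (M.lam_mem hr P hU ht hs)
    (M.sig_mem hr P hU ht hs) v hv).2 c hc
  exact fun e => P.htr (by rw [e, map_zero, add_zero])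

/-- `r ≥ 3`. -/
theorem three_large (hr : 3 ≤ r) (P : Params C κ γ ε w)
    (hp : commutator ↥(Cfsg.SU (2 * r + 1) F q) = ⊤)
    (hgen : ∀ H : Subgroup ↥(Cfsg.SU (2 * r + 1) F q), (∀ v c, Cfsg.hermForm (2 * r + 1) F q v v = 0 →
      C.σ c = -c → C.tm v c ∈ H) → H = ⊤) :
    ∃ g h : ↥(Cfsg.SU (2 * r + 1) F q),
      Subgroup.closure {M.U, g * M.U * g⁻¹, h * M.U * h⁻¹} = ⊤ := by
  have hr2 : 2 ≤ r := by omega
  let t := C.tm (M.a 0) γ
  let t' := C.rt (M.a 0) (M.a 1) ε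
  refine ⟨t, t', ?_⟩
  have ho : ∀ i j : ℤ, 0 ≤ i → i ≤ 2 → 0 ≤ j → j ≤ 2 →
      Cfsg.hermForm (2 * r + 1) F q (M.a i) (M.a j) = 0 :=
    fun i j h1 h2 h3 h4 => M.orth (by omega) (by omega)
  have hp01 : Conj.Orth2 (q := q) (M.a 0) (M.a 1) := M.orth2 hr2 (by omega) (by omega)
  have hp12 : Conj.Orth2 (q := q) (M.a 1) (M.a 2) := M.orth2 hr2 (by omega) (by omega)
  have hγn : C.σ (-γ) = -(-γ) := C.trace_zero_neg P.hγ
  set d := M.U * t⁻¹ * M.U⁻¹ with hd
  set d' := M.U * t'⁻¹ * M.U⁻¹ with hd'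
  have ed : d = C.tm (M.a 1) (-γ) := by
    rw [hd, show t⁻¹ = C.tm (M.a 0) (-γ) from C.tm_inv (M.iso hr2 0) P.hγ,
      C.conj_tm _ (M.iso hr2 0) hγn, M.act, zero_add]
  have ed' : d' = C.rt (M.a 1) (M.a 2) (-ε) := by
    rw [hd', show t'⁻¹ = C.rt (M.a 0) (M.a 1) (-ε) from C.rt_inv hp01 _, C.conj_rt _ hp01, M.act,
      M.act]
    norm_num
  have ctd : Commute t d := by
    rw [ed]
    exact C.commute_tm_tm (M.iso hr2 0) (M.iso hr2 1) P.hγ hγn
      (ho _ _ (by omega) (by omega) le_rfl (by omega))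
  have ctd' : Commute t d' := by
    rw [ed']
    exact C.commute_tm_rt (M.iso hr2 0) P.hγ hp12 (ho _ _ (by omega) (by omega) le_rfl (by omega))
      (ho _ _ (by omega) (by omega) le_rfl (by omega)) _
  have ct'd : Commute t' d := by
    rw [ed]
    exact (C.commute_tm_rt (M.iso hr2 1) hγn hp01 (ho _ _ le_rfl (by omega) (by omega) (by omega))
      (ho _ _ (by omega) (by omega) (by omega) (by omega)) _).symm
  have ct'd' : Commute t' d' := by
    rw [ed']
    exact C.commute_rt_rt hp01 hp12 (ho _ _ (by omega) (by omega) le_rfl (by omega))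
      (ho _ _ (by omega) (by omega) (by omega) (by omega))
      (ho _ _ (by omega) (by omega) le_rfl (by omega))
      (ho _ _ (by omega) (by omega) (by omega) (by omega)) _ _
  have ctt' : Commute t t' :=
    C.commute_tm_rt (M.iso hr2 0) P.hγ hp01 (M.iso hr2 0) (M.orth (by omega) (by omega)) _
  have hmem : ∀ s ∈ ({t, t'} : Set ↥(Cfsg.SU (2 * r + 1) F q)), ∀ x ∈ ({t, t'} : Set _),
      s * (x * M.U * x⁻¹) * s⁻¹ ∈
        Subgroup.closure {M.U, t * M.U * t⁻¹, t' * M.U * t'⁻¹} := by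
    intro s hs x hx
    have hU : M.U ∈ Subgroup.closure {M.U, t * M.U * t⁻¹, t' * M.U * t'⁻¹} :=
      Subgroup.subset_closure (by simp)
    have hconj : ∀ y ∈ ({t, t'} : Set ↥(Cfsg.SU (2 * r + 1) F q)), y * M.U * y⁻¹ ∈
        Subgroup.closure {M.U, t * M.U * t⁻¹, t' * M.U * t'⁻¹} := by
      rintro y (rfl | rfl) <;> exact Subgroup.subset_closure (by simp)
    have hsx : Commute s (x * (M.U * x⁻¹ * M.U⁻¹)) := by
      rcases hs with rfl | rfl <;> rcases hx with rfl | rfl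
      exacts [(Commute.refl _).mul_right ctd, ctt'.mul_right ctd', ctt'.symm.mul_right ct'd,
        (Commute.refl _).mul_right ct'd']
    rw [← shift_mul_conj x M.U, conj_mul_three, hsx.eq, mul_inv_cancel_right,
      show x * (M.U * x⁻¹ * M.U⁻¹) = x * M.U * x⁻¹ * M.U⁻¹ by group]
    exact mul_mem (mul_mem (hconj x hx) (inv_mem hU)) (hconj s hs)
  exact eq_top_of_normalized M.U t t' ctt' (hmem t (by simp) t (by simp))
    (hmem t (by simp) t' (by simp)) (hmem t' (by simp) t (by simp))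
    (hmem t' (by simp) t' (by simp)) (M.gens_eq_top hr2 P hgen) hp

/-- `r = 2`. -/
theorem three_two (M : Model C 2 κ) (P : Params C κ γ ε w)
    (hp : commutator ↥(Cfsg.SU (2 * 2 + 1) F q) = ⊤)
    (hgen : ∀ H : Subgroup ↥(Cfsg.SU (2 * 2 + 1) F q), (∀ v c, Cfsg.hermForm (2 * 2 + 1) F q v v = 0 →
      C.σ c = -c → C.tm v c ∈ H) → H = ⊤) :
    ∃ g h : ↥(Cfsg.SU (2 * 2 + 1) F q),
      Subgroup.closure {M.U, g * M.U * g⁻¹, h * M.U * h⁻¹} = ⊤ := by
  have hr : 2 ≤ 2 := le_rfl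
  let t := C.tm (M.a 0) γ
  let x := C.rt (M.a 0) (M.a 1) ε
  refine ⟨t, x, ?_⟩
  set G := Subgroup.closure ({M.U, t * M.U * t⁻¹, x * M.U * x⁻¹} : Set _) with hG
  have o01 : Conj.Orth2 (q := q) (M.a 0) (M.a 1) := M.orth2 hr (by omega) (by omega)
  have o11 : Conj.Orth2 (q := q) (M.a 1) (M.a 1) := M.orth2 hr (by omega) (by omega)
  have o12 : Conj.Orth2 (q := q) (M.a 1) (M.a 2) := M.orth2 hr (by omega) (by omega)
  have h10 := C.flip_zero o01.hxy
  have h21 := C.flip_zero o12.hxy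
  have h02 : Cfsg.hermForm (2 * 2 + 1) F q (M.a 0) (M.a 2) = κ := by simpa using M.form_top 0
  have h20 : Cfsg.hermForm (2 * 2 + 1) F q (M.a 2) (M.a 0) = C.σ κ := by rw [C.flip, h02]
  have hγn : C.σ (-γ) = -(-γ) := C.trace_zero_neg P.hγ
  have hU : M.U ∈ G := Subgroup.subset_closure (by simp)
  have htU : t * M.U * t⁻¹ ∈ G := Subgroup.subset_closure (by simp)
  have hxU : x * M.U * x⁻¹ ∈ G := Subgroup.subset_closure (by simp)
  let b := C.tm (M.a 1) γ
  let d := t * b⁻¹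
  let y := C.rt (M.a 1) (M.a 2) (-ε)
  let d' := x * y
  have ed : t * M.U * t⁻¹ = d * M.U := by
    rw [← shift_mul_conj t M.U, show t⁻¹ = C.tm (M.a 0) (-γ) from C.tm_inv (M.iso hr 0) P.hγ,
      C.conj_tm _ (M.iso hr 0) hγn, M.act, zero_add,
      show d = t * C.tm (M.a 1) (-γ) by rw [← C.tm_inv (M.iso hr 1) P.hγ]]
  have ed' : x * M.U * x⁻¹ = d' * M.U := by
    rw [← shift_mul_conj x M.U, show x⁻¹ = C.rt (M.a 0) (M.a 1) (-ε) from C.rt_inv o01 _,
      C.conj_rt _ o01, M.act, M.act]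
    norm_num [d', y]
  have hd : d ∈ G := by
    rw [show d = (t * M.U * t⁻¹) * M.U⁻¹ by rw [ed, mul_inv_cancel_right]]
    exact mul_mem htU (inv_mem hU)
  have hd' : d' ∈ G := by
    rw [show d' = (x * M.U * x⁻¹) * M.U⁻¹ by rw [ed', mul_inv_cancel_right]]
    exact mul_mem hxU (inv_mem hU)
  have ctx : Commute t x := C.commute_tm_rt (M.iso hr 0) P.hγ o01 (M.iso hr 0) h10 _
  have ctb : Commute t b := C.commute_tm_tm (M.iso hr 0) (M.iso hr 1) P.hγ P.hγ h10
  have cbx : Commute b x := C.commute_tm_rt (M.iso hr 1) P.hγ o01 o01.hxy (M.iso hr 1) _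
  have cby : Commute b y := C.commute_tm_rt (M.iso hr 1) P.hγ o12 (M.iso hr 1) h21 _
  have cbd' : Commute b d' := cbx.mul_right cby
  have hb : b⁻¹ * d' * b = d' := by rw [mul_assoc, ← cbd'.eq, inv_mul_cancel_left]
  set B := ε * ε * (κ - C.σ κ) with hBdef
  have hB : C.σ B = -B := by simp only [hBdef, map_mul, map_sub, P.hε, C.hσ2]; ring
  have hxd : x * d' * x⁻¹ = d' * C.tm (M.a 1) B := by
    have hx2 : mat x *ᵥ M.a 2 = M.a 2 + (ε * C.σ κ) • M.a 1 := by
      rw [C.rt_mulVec o01, h20, h21]; simp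
    rw [show x * d' * x⁻¹ = x * (x * y * x⁻¹) by simp only [d']; group, C.conj_rt _ o12,
      C.rt_fix o01 _ h10 (M.iso hr 1), hx2,
      C.rt_add_right o12 (C.orth2_smul_right _ o11) (by rw [C.smul_right, h21, mul_zero]),
      C.rt_smul_right o11, C.rt_self (M.iso hr 1), ← mul_assoc]
    congr 2
    simp only [hBdef, map_mul, map_neg, P.hε, C.hσ2]
    ring
  -- the commutator `[d, d']`
  set u1 := ε * κ with hu1
  have hy0 : mat d' *ᵥ M.a 0 = M.a 0 + u1 • M.a 1 := by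
    rw [mulVec_mul, C.rt_mulVec o12, o01.hxy, h02, map_neg, P.hε]
    simp only [mul_zero, zero_smul, add_zero, neg_mul, neg_smul, sub_neg_eq_add, mulVec_add,
      mulVec_smul]
    rw [C.rt_fix o01 _ (M.iso hr 0) o01.hxy, C.rt_fix o01 _ h10 (M.iso hr 1)]
  have hy1 : mat d' *ᵥ M.a 1 = M.a 1 := by
    rw [mulVec_mul, C.rt_fix o12 _ (M.iso hr 1) o12.hxy, C.rt_fix o01 _ h10 (M.iso hr 1)]
  set c := -γ * u1 with hcdef
  set l := -γ * (u1 * C.σ u1) with hldef
  have hl : C.σ l = -l := C.trace_zero_mul hγn (C.norm_fixed u1)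
  have he : d * d' * d⁻¹ * d'⁻¹ = C.rt (M.a 0) (M.a 1) c * C.tm (M.a 1) l := by
    have e1 : d * d' * d⁻¹ * d'⁻¹ = t * (d' * t⁻¹ * d'⁻¹) := by
      calc d * d' * d⁻¹ * d'⁻¹ = t * ((b⁻¹ * d' * b) * t⁻¹ * d'⁻¹) := by
            simp only [d]; group
        _ = _ := by rw [hb]
    rw [e1, show t⁻¹ = C.tm (M.a 0) (-γ) from C.tm_inv (M.iso hr 0) P.hγ,
      C.conj_tm _ (M.iso hr 0) hγn, hy0, C.tm_add_smul o01 _ hγn, ← mul_assoc]
    have hc1 : Commute t (C.rt (M.a 0) (M.a 1) c * C.tm (M.a 1) l) :=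
      (C.commute_tm_rt (M.iso hr 0) P.hγ o01 (M.iso hr 0) h10 _).mul_right
        (C.commute_tm_tm (M.iso hr 0) (M.iso hr 1) P.hγ hl h10)
    rw [hc1.eq, mul_assoc, C.tm_mul (M.iso hr 0) P.hγ hγn, add_neg_cancel, C.tm_zero (M.iso hr 0),
      mul_one]
  have heG : C.rt (M.a 0) (M.a 1) c * C.tm (M.a 1) l ∈ G := by
    rw [← he]; exact mul_mem (mul_mem (mul_mem hd hd') (inv_mem hd)) (inv_mem hd')
  have hBG : C.tm (M.a 1) B ∈ G := by
    rcases P.cases with ⟨h2, hγ1, hN, -⟩ | ⟨h2, hrel, -⟩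
    · -- characteristic two
      have : CharP F 2 := CharTwo.of_one_ne_zero_of_two_eq_zero one_ne_zero h2
      have hneg : ∀ z : F, -z = z := CharTwo.neg_eq
      have hc' : c = u1 := by rw [hcdef, hγ1, hneg, one_mul]
      have hl' : l = ε := by
        simp only [hldef, hu1, hγ1, hneg, one_mul, map_mul, P.hε]
        linear_combination ε * hN
      rw [hc', hl'] at heG
      have hεσ : C.σ ε = -ε := by rw [hneg, P.hε]
      set E1 := M.U * (C.rt (M.a 0) (M.a 1) u1 * C.tm (M.a 1) ε) * M.U⁻¹ with hE1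
      have hE1G : E1 ∈ G := mul_mem (mul_mem hU heG) (inv_mem hU)
      have eE1 : E1 = C.rt (M.a 1) (M.a 2) u1 * C.tm (M.a 2) ε := by
        rw [hE1, show M.U * (C.rt (M.a 0) (M.a 1) u1 * C.tm (M.a 1) ε) * M.U⁻¹ =
          (M.U * C.rt (M.a 0) (M.a 1) u1 * M.U⁻¹) * (M.U * C.tm (M.a 1) ε * M.U⁻¹) by group,
          C.conj_rt _ o01, C.conj_tm _ (M.iso hr 1) hεσ, M.act, M.act]
        norm_num
      have a1E : mat E1 *ᵥ M.a 1 = M.a 1 := by
        rw [eE1, mulVec_mul, C.tm_fix (M.iso hr 2) hεσ o12.hxy,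
          C.rt_fix o12 _ (M.iso hr 1) o12.hxy]
      have a0E : mat E1 *ᵥ M.a 0 = (M.a 0 + M.a 1) + u1 • M.a 2 := by
        rw [eE1, mulVec_mul, C.tm_mulVec (M.iso hr 2) hεσ, h02, mulVec_add, mulVec_smul,
          C.rt_fix o12 _ h21 (M.iso hr 2), C.rt_mulVec o12, o01.hxy, h02, ← hu1]
        rw [show C.σ u1 * κ = 1 by rw [hu1, map_mul, P.hε, ← hN]; ring, mul_zero, zero_smul,
          add_zero, one_smul, sub_eq_add_neg, ← neg_one_smul F (M.a 1), hneg, one_smul]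
      have o0' : Conj.Orth2 (q := q) (M.a 0 + M.a 1) (M.a 1) :=
        C.orth2_add_left o01 o11 o01.hxy
      have o2' : Conj.Orth2 (q := q) (u1 • M.a 2) (M.a 1) :=
        C.orth2_smul_left _ (C.orth2_symm o12)
      have os : Conj.Orth2 (q := q) ((M.a 0 + M.a 1) + u1 • M.a 2) (M.a 1) := by
        rw [← a0E]
        refine ⟨by rw [form_mulVec, M.iso hr], M.iso hr _, ?_⟩
        rw [← a1E, form_mulVec, o01.hxy]
      have hgen' := C.rt_add_left_gen o0' o2' os u1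
      have hμ : -(u1 * C.σ u1 * Cfsg.hermForm (2 * 2 + 1) F q (u1 • M.a 2) (M.a 0 + M.a 1)) = ε := by
        simp only [C.smul_left, C.add_right, h20, h21, add_zero, hu1, map_mul, P.hε, hneg]
        linear_combination (ε * (ε * (κ * C.σ κ) + 1)) * hN
      rw [hμ, C.rt_add_left o01 o11 o01.hxy, C.rt_self (M.iso hr 1),
        C.rt_smul_left (C.orth2_symm o12), C.rt_swap o12] at hgen'
      have hco : -C.σ (u1 * C.σ u1) = ε := by
        simp only [hu1, map_mul, C.hσ2, P.hε, hneg]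
        linear_combination ε * hN
      rw [hco] at hgen'
      have hP : C.σ (u1 - C.σ u1) = -(u1 - C.σ u1) := C.trace_zero_sub_conj u1
      have hεn : C.σ (-ε) = -(-ε) := C.trace_zero_neg hεσ
      set a := -ε + (u1 - C.σ u1) with hadef
      have ha : C.σ a = -a := C.trace_zero_add hεn hP
      have hq1 : C.tm (M.a 1) a * C.rt (M.a 1) (M.a 2) ε ∈ G := by
        have h1 := mul_mem (inv_mem heG) (mul_mem (mul_mem hE1G heG) (inv_mem hE1G))
        have e : E1 * (C.rt (M.a 0) (M.a 1) u1 * C.tm (M.a 1) ε) * E1⁻¹ =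
            (E1 * C.rt (M.a 0) (M.a 1) u1 * E1⁻¹) * (E1 * C.tm (M.a 1) ε * E1⁻¹) := by group
        rw [e, C.conj_rt _ o01, C.conj_tm _ (M.iso hr 1) hεσ, a0E, a1E,
          eq_mul_inv_of_mul_eq hgen'.symm, inv_mul_cancel_right, _root_.mul_inv_rev,
          mul_assoc (C.rt (M.a 0) (M.a 1) u1), mul_assoc, inv_mul_cancel_left, ← mul_assoc,
          C.tm_inv (M.iso hr 1) hεσ, C.tm_mul (M.iso hr 1) hεn hP] at h1
        exact h1
      have hq0 : C.tm (M.a 0) a * x ∈ G := by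
        have := mul_mem (mul_mem (inv_mem hU) hq1) (inv_mem (inv_mem hU))
        rw [show M.U⁻¹ * (C.tm (M.a 1) a * C.rt (M.a 1) (M.a 2) ε) * M.U⁻¹⁻¹ =
          (M.U⁻¹ * C.tm (M.a 1) a * M.U⁻¹⁻¹) * (M.U⁻¹ * C.rt (M.a 1) (M.a 2) ε * M.U⁻¹⁻¹) by group,
          C.conj_tm _ (M.iso hr 1) ha, C.conj_rt _ o12, M.inv_act, M.inv_act] at this
        simpa using this
      have c0x : Commute (C.tm (M.a 0) a) x :=
        C.commute_tm_rt (M.iso hr 0) ha o01 (M.iso hr 0) h10 _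
      have c1x : Commute (C.tm (M.a 1) a) x :=
        C.commute_tm_rt (M.iso hr 1) ha o01 o01.hxy (M.iso hr 1) _
      have c1y : Commute (C.tm (M.a 1) a) y :=
        C.commute_tm_rt (M.iso hr 1) ha o12 (M.iso hr 1) h21 _
      have hy : y = C.rt (M.a 1) (M.a 2) ε := by simp only [y, hneg]
      have hda : C.tm (M.a 0) a * C.tm (M.a 1) a ∈ G := by
        have h1 := mul_mem (mul_mem hq0 hq1) (inv_mem hd')
        have e : C.tm (M.a 0) a * x * (C.tm (M.a 1) a * C.rt (M.a 1) (M.a 2) ε) * d'⁻¹ =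
            C.tm (M.a 0) a * C.tm (M.a 1) a := by
          rw [← hy, mul_assoc (C.tm (M.a 0) a) x, ← mul_assoc x, ← c1x.eq, mul_assoc _ x y,
            ← mul_assoc (C.tm (M.a 0) a)]
          exact mul_inv_cancel_right _ _
        rwa [e] at h1
      have h3 := mul_mem (mul_mem hq0 hd') (inv_mem hq0)
      have cB : Commute (C.tm (M.a 0) a) (C.tm (M.a 1) B) :=
        C.commute_tm_tm (M.iso hr 0) (M.iso hr 1) ha hB h10
      have cad : Commute (C.tm (M.a 1) a) d' := c1x.mul_right c1y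
      have e3 : C.tm (M.a 0) a * x * d' * (C.tm (M.a 0) a * x)⁻¹ =
          (C.tm (M.a 0) a * C.tm (M.a 1) a) * d' * (C.tm (M.a 0) a * C.tm (M.a 1) a)⁻¹ *
            C.tm (M.a 1) B := by
        calc C.tm (M.a 0) a * x * d' * (C.tm (M.a 0) a * x)⁻¹
            = C.tm (M.a 0) a * (x * d' * x⁻¹) * (C.tm (M.a 0) a)⁻¹ := by group
          _ = C.tm (M.a 0) a * d' * (C.tm (M.a 0) a)⁻¹ * C.tm (M.a 1) B := by
              rw [hxd, mul_assoc, mul_assoc d', ← cB.inv_left.eq]; group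
          _ = C.tm (M.a 0) a * (C.tm (M.a 1) a * d' * (C.tm (M.a 1) a)⁻¹) *
                (C.tm (M.a 0) a)⁻¹ * C.tm (M.a 1) B := by
              rw [cad.eq, mul_inv_cancel_right]
          _ = _ := by group
      rw [e3] at h3
      exact (G.mul_mem_cancel_left (mul_mem (mul_mem hda hd') (inv_mem hda))).1 h3
    · -- odd characteristic
      have h1 := mul_mem (mul_mem (mul_mem hd' heG) (inv_mem hd')) (inv_mem heG)
      have e1 : d' * (C.rt (M.a 0) (M.a 1) c * C.tm (M.a 1) l) * d'⁻¹ =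
          (d' * C.rt (M.a 0) (M.a 1) c * d'⁻¹) * (d' * C.tm (M.a 1) l * d'⁻¹) := by group
      rw [e1, C.conj_rt _ o01, C.conj_tm _ (M.iso hr 1) hl, hy0, hy1,
        C.rt_add_left o01 (C.orth2_smul_left _ o11) (by rw [C.smul_right, o01.hxy, mul_zero]),
        C.rt_smul_left o11, C.rt_self (M.iso hr 1)] at h1
      have hcc : Commute (C.rt (M.a 0) (M.a 1) c) (C.tm (M.a 1) (c * C.σ u1 - C.σ (c * C.σ u1))) :=
        (C.commute_tm_rt (M.iso hr 1) (C.trace_zero_sub_conj _) o01 o01.hxy (M.iso hr 1) _).symm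
      rw [show C.rt (M.a 0) (M.a 1) c * C.tm (M.a 1) (c * C.σ u1 - C.σ (c * C.σ u1)) *
          C.tm (M.a 1) l * (C.rt (M.a 0) (M.a 1) c * C.tm (M.a 1) l)⁻¹ =
          C.rt (M.a 0) (M.a 1) c * C.tm (M.a 1) (c * C.σ u1 - C.σ (c * C.σ u1)) *
            (C.rt (M.a 0) (M.a 1) c)⁻¹ by group, hcc.eq, mul_inv_cancel_right] at h1
      have e2 : c * C.σ u1 - C.σ (c * C.σ u1) = -B := by
        simp only [hcdef, hBdef, hu1, map_mul, map_neg, C.hσ2, P.hε, P.hγ]
        linear_combination -(ε * ε) * hrel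
      rw [e2, ← C.tm_inv (M.iso hr 1) hB] at h1
      simpa using inv_mem h1
  refine eq_top_of_normalized M.U t x ctx ?_ ?_ ?_ ?_ (M.gens_eq_top hr P hgen) hp
  · show t * (t * M.U * t⁻¹) * t⁻¹ ∈ G
    rw [ed, conj_mul_three, ed]
    have : t * d * t⁻¹ = d := by
      rw [((Commute.refl t).mul_right ctb.inv_right).eq, mul_inv_cancel_right]
    rw [this]
    exact mul_mem hd (mul_mem hd hU)
  · show t * (x * M.U * x⁻¹) * t⁻¹ ∈ G
    rw [ed', conj_mul_three, ed]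
    have : t * d' * t⁻¹ = d * d' * d⁻¹ := by
      calc t * d' * t⁻¹ = t * (b⁻¹ * d' * b) * t⁻¹ := by rw [hb]
        _ = _ := by simp only [d]; group
    rw [this]
    exact mul_mem (mul_mem (mul_mem hd hd') (inv_mem hd)) (mul_mem hd hU)
  · show x * (t * M.U * t⁻¹) * x⁻¹ ∈ G
    rw [ed, conj_mul_three, ed']
    have : x * d * x⁻¹ = d := by
      rw [(ctx.symm.mul_right cbx.symm.inv_right).eq, mul_inv_cancel_right]
    rw [this]
    exact mul_mem hd (mul_mem hd' hU)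
  · show x * (x * M.U * x⁻¹) * x⁻¹ ∈ G
    rw [ed', conj_mul_three, ed', hxd]
    exact mul_mem (mul_mem hd' hBG) (mul_mem hd' hU)

end Model

end CfsgLib.RegUnipU
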